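import Mathlib

set_option autoImplicit false

/-!
Number-theoretic piece (NT) of the S2278 swarm: existence of field elements whose cube (resp.
`θ + θ⁻¹` for the cube `θ`) generates the whole finite field.
-/

namespace Cfsg.Agent.SL3G

/-- a proper subfield `K` of a finite field `F` satisfies `|K|² ≤ |F|` -/
theorem h1_sq_card_le {F : Type*} [Field F] [Finite F] (K : Subfield F) (hK : K ≠ ⊤) :
    Nat.card K ^ 2 ≤ Nat.card F := by
  obtain ⟨x, hx⟩ : ∃ x : F, x ∉ K := by
    by_contra h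
    push Not at h
    exact hK (eq_top_iff.2 fun x _ => h x)
  have hinj : Function.Injective (fun ab : K × K => (ab.1 : F) + (ab.2 : F) * x) := by
    rintro ⟨a, b⟩ ⟨a', b'⟩ h
    simp only at h
    by_cases hb : b = b'
    · subst hb
      have h1 : (a : F) = a' := by linear_combination h
      have h2 : a = a' := Subtype.ext h1
      rw [h2]
    · exfalso
      apply hx
      have hne : ((b : F) - b') ≠ 0 := by
        intro h0
        apply hb
        exact Subtype.ext (sub_eq_zero.1 h0)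
      have hxe : x = ((a' : F) - a) / ((b : F) - b') := by
        rw [eq_div_iff hne]
        linear_combination h
      rw [hxe]
      exact K.div_mem (K.sub_mem a'.2 a.2) (K.sub_mem b.2 b'.2)
  have := Nat.card_le_card_of_injective _ hinj
  rwa [Nat.card_prod, ← sq] at this

/-- elements of a finite subfield are fixed by the `|K|`-th power map -/
theorem h1_pow_card {F : Type*} [Field F] [Finite F] (K : Subfield F) (x : F) (hx : x ∈ K) :
    x ^ Nat.card K = x := by
  classical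
  letI : Fintype K := Fintype.ofFinite K
  have h := FiniteField.pow_card (⟨x, hx⟩ : K)
  rw [← Nat.card_eq_fintype_card] at h
  have h' := congrArg (Subtype.val) h
  simpa using h'

/-- a generator of the unit group, with its order -/
theorem h1_exists_generator (F : Type*) [Field F] [Fintype F] :
    ∃ g : Fˣ, orderOf g = Fintype.card F - 1 := by
  classical
  obtain ⟨g, hg⟩ := IsCyclic.exists_generator (α := Fˣ)
  refine ⟨g, ?_⟩
  rw [orderOf_eq_card_of_forall_mem_zpowers hg, Nat.card_eq_fintype_card, Fintype.card_units]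

/-- from `(g : F) ^ a = (g : F) ^ b` to a divisibility of exponents -/
theorem h1_dvd_of_pow_eq {F : Type*} [Field F] (g : Fˣ) (a b : ℕ) (hab : b ≤ a)
    (h : (g : F) ^ a = (g : F) ^ b) : orderOf g ∣ a - b := by
  have h1 : g ^ a = g ^ b := by
    apply Units.ext
    push_cast
    exact h
  have h2 : g ^ (a - b) = 1 := by
    have : g ^ (a - b) * g ^ b = g ^ b := by
      rw [← pow_add, Nat.sub_add_cancel hab, h1]
    exact mul_eq_right.1 this
  exact orderOf_dvd_of_pow_eq_one h2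

/-- **(NT-a)** -/
theorem h1_nt_even {F : Type*} [Field F] [Fintype F] (h2 : (2 : F) = 0)
    (h4 : Fintype.card F ≠ 4) :
    ∃ ζ : F, ζ ≠ 0 ∧ Subfield.closure ({ζ ^ 3} : Set F) = ⊤ := by
  classical
  obtain ⟨g, hord⟩ := h1_exists_generator F
  refine ⟨(g : F), g.ne_zero, ?_⟩
  by_contra hK
  obtain ⟨K, hKdef⟩ : ∃ K : Subfield F, K = Subfield.closure ({(g : F) ^ 3} : Set F) :=
    ⟨_, rfl⟩
  rw [← hKdef] at hK
  have hsq := h1_sq_card_le K hK
  rw [Nat.card_eq_fintype_card (α := F)] at hsq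
  have hmem : (g : F) ^ 3 ∈ K := by
    rw [hKdef]; exact Subfield.subset_closure (Set.mem_singleton _)
  have hpow : ((g : F) ^ 3) ^ Nat.card K = (g : F) ^ 3 := h1_pow_card K _ hmem
  have hq0 : 2 ≤ Nat.card K := Finite.one_lt_card
  rw [← pow_mul] at hpow
  have hdvd := h1_dvd_of_pow_eq g (3 * Nat.card K) 3 (by omega) hpow
  rw [hord] at hdvd
  obtain ⟨q0, hq0def⟩ : ∃ q0, q0 = Nat.card K := ⟨_, rfl⟩
  obtain ⟨q, hqdef⟩ : ∃ q, q = Fintype.card F := ⟨_, rfl⟩
  rw [← hq0def] at hdvd hsq hq0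
  rw [← hqdef] at hdvd hsq h4
  have hle : q - 1 ≤ 3 * q0 - 3 := Nat.le_of_dvd (by omega) hdvd
  have hq0le : q0 ≤ 2 := by
    by_contra hlt
    push Not at hlt
    have : 3 * q0 ≤ q0 ^ 2 := by nlinarith
    omega
  have hq02 : q0 = 2 := by omega
  subst hq02
  norm_num at hsq hle
  omega

/-- **(NT-b)** -/
theorem h1_nt_odd {F : Type*} [Field F] [Fintype F] (h2 : (2 : F) ≠ 0)
    (h3 : Fintype.card F ≠ 3) (h7 : Fintype.card F ≠ 7) :
    ∃ η : F, η ≠ 0 ∧ η + 1 ≠ 0 ∧ (η ^ 3) ^ 2 ≠ 1 ∧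
      Subfield.closure ({η ^ 3 + (η ^ 3)⁻¹} : Set F) = ⊤ := by
  classical
  obtain ⟨g, hord⟩ := h1_exists_generator F
  obtain ⟨p, hp⟩ := CharP.exists F
  have := hp
  obtain ⟨m, hpp, hqm⟩ := FiniteField.card F p
  have : Fact p.Prime := ⟨hpp⟩
  have hp2 : p ≠ 2 := by
    rintro rfl
    apply h2
    have := CharP.cast_eq_zero F 2
    exact_mod_cast this
  have hp3 : 3 ≤ p := by
    have := hpp.two_le
    omega
  obtain ⟨q, hqdef⟩ : ∃ q, q = Fintype.card F := ⟨_, rfl⟩
  rw [← hqdef] at hord h3 h7 hqm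
  have hm1 : 1 ≤ (m : ℕ) := m.pos
  have hq3 : 3 ≤ q := by
    rw [hqm]
    calc 3 ≤ p := hp3
      _ = p ^ 1 := (pow_one p).symm
      _ ≤ p ^ (m : ℕ) := Nat.pow_le_pow_right hpp.pos hm1
  have hqodd : q % 2 = 1 := by
    rw [hqm]
    have hpodd : p % 2 = 1 := by
      rcases hpp.eq_two_or_odd with h | h
      · exact absurd h hp2
      · exact h
    simp [Nat.pow_mod, hpodd]
  refine ⟨(g : F), g.ne_zero, ?_, ?_, ?_⟩
  · -- η + 1 ≠ 0
    intro h
    have hneg : (g : F) = -1 := by linear_combination h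
    have hsq : (g : F) ^ 2 = (g : F) ^ 0 := by rw [hneg]; ring
    have hd := h1_dvd_of_pow_eq g 2 0 (by omega) hsq
    rw [hord] at hd
    have := Nat.le_of_dvd (by omega) hd
    omega
  · -- (η³)² ≠ 1
    intro h
    have h6 : (g : F) ^ 6 = (g : F) ^ 0 := by rw [pow_zero, ← h]; ring
    have hd := h1_dvd_of_pow_eq g 6 0 (by omega) h6
    rw [hord] at hd
    have hle := Nat.le_of_dvd (by omega) hd
    have hq7 : q ≤ 7 := by omega
    interval_cases q <;> omega
  · by_contra hK
    obtain ⟨θ, hθdef⟩ : ∃ θ : F, θ = (g : F) ^ 3 := ⟨_, rfl⟩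
    rw [← hθdef] at hK
    have hθ0 : θ ≠ 0 := by rw [hθdef]; exact pow_ne_zero _ g.ne_zero
    obtain ⟨K, hKdef⟩ : ∃ K : Subfield F, K = Subfield.closure ({θ + θ⁻¹} : Set F) :=
      ⟨_, rfl⟩
    rw [← hKdef] at hK
    have hsq := h1_sq_card_le K hK
    rw [Nat.card_eq_fintype_card (α := F), ← hqdef] at hsq
    have hmem : θ + θ⁻¹ ∈ K := by
      rw [hKdef]; exact Subfield.subset_closure (Set.mem_singleton _)
    have hpow : (θ + θ⁻¹) ^ Nat.card K = θ + θ⁻¹ := h1_pow_card K _ hmem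
    have hq0 : 2 ≤ Nat.card K := Finite.one_lt_card
    -- `|K|` is a power of `p`
    haveI : Fintype K := Fintype.ofFinite K
    haveI : CharP K p := RingHom.charP K.subtype Subtype.val_injective p
    obtain ⟨n, -, hq0n⟩ := FiniteField.card K p
    rw [← Nat.card_eq_fintype_card] at hq0n
    obtain ⟨q0, hq0def⟩ : ∃ q0, q0 = Nat.card K := ⟨_, rfl⟩
    rw [← hq0def] at hpow hq0 hq0n hsq
    have hn1 : 1 ≤ (n : ℕ) := n.pos
    -- the quadratic equation and its Frobenius twist
    have hquad : θ ^ 2 + 1 = (θ + θ⁻¹) * θ := by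
      field_simp
    have hquad' : (θ ^ q0) ^ 2 + 1 = (θ + θ⁻¹) * θ ^ q0 := by
      have h1 : (θ ^ 2 + 1) ^ q0 = ((θ + θ⁻¹) * θ) ^ q0 := by rw [hquad]
      rw [mul_pow, hpow] at h1
      rw [← h1, hq0n, add_pow_char_pow, one_pow]
      ring
    have hfact : (θ ^ q0 - θ) * (θ ^ q0 - θ⁻¹) = 0 := by
      have : (θ ^ q0 - θ) * (θ ^ q0 - θ⁻¹) = (θ ^ q0) ^ 2 + θ * θ⁻¹ - (θ + θ⁻¹) * θ ^ q0 := by
        ring
      rw [this, mul_inv_cancel₀ hθ0, hquad']
      ring
    have hdvd : q - 1 ∣ 3 * q0 - 3 ∨ q - 1 ∣ 3 * q0 + 3 := by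
      rcases mul_eq_zero.1 hfact with h | h
      · left
        have h' : (g : F) ^ (3 * q0) = (g : F) ^ 3 := by
          rw [pow_mul, ← hθdef]; exact sub_eq_zero.1 h
        have := h1_dvd_of_pow_eq g (3 * q0) 3 (by omega) h'
        rwa [hord] at this
      · right
        have h1 : θ ^ q0 = θ⁻¹ := sub_eq_zero.1 h
        have h' : (g : F) ^ (3 * q0 + 3) = (g : F) ^ 0 := by
          rw [pow_add, pow_mul, ← hθdef, h1, pow_zero, inv_mul_cancel₀ hθ0]
        have := h1_dvd_of_pow_eq g (3 * q0 + 3) 0 (by omega) h'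
        rwa [hord, Nat.sub_zero] at this
    have hle : q - 1 ≤ 3 * q0 + 3 := by
      rcases hdvd with h | h
      · have := Nat.le_of_dvd (by omega) h
        omega
      · exact Nat.le_of_dvd (by omega) h
    have hq0le : q0 ≤ 4 := by
      by_contra hlt
      push Not at hlt
      have : 5 * q0 ≤ q0 ^ 2 := by nlinarith
      omega
    have hpq0 : p ≤ q0 := by
      rw [hq0n]
      calc p = p ^ 1 := (pow_one p).symm
        _ ≤ p ^ (n : ℕ) := Nat.pow_le_pow_right hpp.pos hn1
    have hp3' : p = 3 := by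
      have hp4 : p ≤ 4 := le_trans hpq0 hq0le
      interval_cases p
      · rfl
      · exact absurd hpp (by norm_num)
    subst hp3'
    have hn : (n : ℕ) = 1 := by
      by_contra hne
      have h2n : 2 ≤ (n : ℕ) := by omega
      have : 3 ^ 2 ≤ 3 ^ (n : ℕ) := Nat.pow_le_pow_right (by norm_num) h2n
      omega
    rw [hn, pow_one] at hq0n
    subst hq0n
    -- now `q0 = 3`, `9 ≤ q ≤ 13`, `q = 3 ^ m`
    have hm2 : (m : ℕ) = 2 := by
      have hmle : (m : ℕ) ≤ 2 := by
        by_contra hlt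
        push Not at hlt
        have : 3 ^ 3 ≤ 3 ^ (m : ℕ) := Nat.pow_le_pow_right (by norm_num) hlt
        omega
      have hmge : 2 ≤ (m : ℕ) := by
        by_contra hlt
        push Not at hlt
        have hm : (m : ℕ) = 1 := by omega
        rw [hm] at hqm
        omega
      omega
    rw [hm2] at hqm
    subst hqm
    norm_num at hdvd

end Cfsg.Agent.SL3G
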