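import Mathlib
import Cfsg.Agent.Helper7.Transvections

set_option autoImplicit false

/-!
# `SL₃(F)` is generated by two conjugate regular unipotent elements: basic API (helper6)

`Has H M` says that the explicit `3 × 3` matrix `M` is (the matrix of) an element of the subgroup
`H ≤ SL₃(F)`.
-/

namespace Cfsg.Agent.SL3G

open Matrix

variable {F : Type*} [Field F]

/-- the matrix `M` is the matrix of an element of `H`. -/
def Has (H : Subgroup (Matrix.SpecialLinearGroup (Fin 3) F)) (M : Matrix (Fin 3) (Fin 3) F) : Prop :=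
  ∃ g ∈ H, (g : Matrix (Fin 3) (Fin 3) F) = M

variable {H : Subgroup (Matrix.SpecialLinearGroup (Fin 3) F)}

theorem Has.of_mem {g : Matrix.SpecialLinearGroup (Fin 3) F} (hg : g ∈ H) :
    Has H (g : Matrix (Fin 3) (Fin 3) F) := ⟨g, hg, rfl⟩

theorem Has.one : Has H (1 : Matrix (Fin 3) (Fin 3) F) :=
  ⟨1, H.one_mem, Matrix.SpecialLinearGroup.coe_one⟩

theorem Has.mul {M N : Matrix (Fin 3) (Fin 3) F} (hM : Has H M) (hN : Has H N) : Has H (M * N) := by
  obtain ⟨g, hg, rfl⟩ := hM
  obtain ⟨h, hh, rfl⟩ := hN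
  exact ⟨g * h, H.mul_mem hg hh, Matrix.SpecialLinearGroup.coe_mul g h⟩

/-- if `M * N = 1` and `M` is in `H` then so is `N` (it is the inverse). -/
theorem Has.inv {M N : Matrix (Fin 3) (Fin 3) F} (hM : Has H M) (h : M * N = 1) : Has H N := by
  obtain ⟨g, hg, rfl⟩ := hM
  refine ⟨g⁻¹, H.inv_mem hg, ?_⟩
  have h1 : ((g⁻¹ : Matrix.SpecialLinearGroup (Fin 3) F) : Matrix (Fin 3) (Fin 3) F)
      * (g : Matrix (Fin 3) (Fin 3) F) = 1 := by
    rw [← Matrix.SpecialLinearGroup.coe_mul, inv_mul_cancel, Matrix.SpecialLinearGroup.coe_one]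
  calc ((g⁻¹ : Matrix.SpecialLinearGroup (Fin 3) F) : Matrix (Fin 3) (Fin 3) F)
      = ((g⁻¹ : Matrix.SpecialLinearGroup (Fin 3) F) : Matrix (Fin 3) (Fin 3) F)
          * ((g : Matrix (Fin 3) (Fin 3) F) * N) := by rw [h, mul_one]
    _ = N := by rw [← Matrix.mul_assoc, h1, one_mul]

theorem Has.congr {M N : Matrix (Fin 3) (Fin 3) F} (hM : Has H M) (h : M = N) : Has H N := h ▸ hM

/-- conjugation: `P M Q` with `P Q = 1`. -/
theorem Has.conj {M P Q : Matrix (Fin 3) (Fin 3) F} (hM : Has H M) (hP : Has H P) (h : P * Q = 1) :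
    Has H (P * M * Q) := (hP.mul hM).mul (hP.inv h)

/-- a subgroup containing all six families of elementary matrices is everything. -/
theorem eq_top_of_elementary
    (h12 : ∀ s : F, Has H !![1, s, 0; 0, 1, 0; 0, 0, 1])
    (h13 : ∀ s : F, Has H !![1, 0, s; 0, 1, 0; 0, 0, 1])
    (h21 : ∀ s : F, Has H !![1, 0, 0; s, 1, 0; 0, 0, 1])
    (h23 : ∀ s : F, Has H !![1, 0, 0; 0, 1, s; 0, 0, 1])
    (h31 : ∀ s : F, Has H !![1, 0, 0; 0, 1, 0; s, 0, 1])
    (h32 : ∀ s : F, Has H !![1, 0, 0; 0, 1, 0; 0, s, 1]) : H = ⊤ := by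
  rw [eq_top_iff]
  intro M _
  refine Cfsg.Agent.Helper7.Transv.transvection_induction (fun M => M ∈ H) ?_
    (fun A B hA hB => H.mul_mem hA hB) M
  intro i j hij c
  have key : ∀ N : Matrix (Fin 3) (Fin 3) F, Has H N →
      ((Matrix.SpecialLinearGroup.transvection hij c : Matrix.SpecialLinearGroup (Fin 3) F) :
        Matrix (Fin 3) (Fin 3) F) = N → Matrix.SpecialLinearGroup.transvection hij c ∈ H := by
    intro N hN e
    obtain ⟨g, hg, hgN⟩ := hN
    have : g = Matrix.SpecialLinearGroup.transvection hij c := Subtype.ext (by rw [hgN, e])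
    rw [← this]
    exact hg
  fin_cases i <;> fin_cases j
  · exact absurd rfl hij
  · refine key _ (h12 c) ?_
    ext a b
    fin_cases a <;> fin_cases b <;> simp [Matrix.SpecialLinearGroup.transvection_coe]
  · refine key _ (h13 c) ?_
    ext a b
    fin_cases a <;> fin_cases b <;> simp [Matrix.SpecialLinearGroup.transvection_coe]
  · refine key _ (h21 c) ?_
    ext a b
    fin_cases a <;> fin_cases b <;> simp [Matrix.SpecialLinearGroup.transvection_coe]
  · exact absurd rfl hij
  · refine key _ (h23 c) ?_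
    ext a b
    fin_cases a <;> fin_cases b <;> simp [Matrix.SpecialLinearGroup.transvection_coe]
  · refine key _ (h31 c) ?_
    ext a b
    fin_cases a <;> fin_cases b <;> simp [Matrix.SpecialLinearGroup.transvection_coe]
  · refine key _ (h32 c) ?_
    ext a b
    fin_cases a <;> fin_cases b <;> simp [Matrix.SpecialLinearGroup.transvection_coe]
  · exact absurd rfl hij

end Cfsg.Agent.SL3G
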