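import Mathlib
import Cfsg.Agent.SL3G.Base

set_option autoImplicit false
set_option linter.unnecessarySeqFocus false
set_option linter.unusedTactic false
set_option linter.unreachableTactic false

/-!
# The general position lemma (helper6)

A subgroup `H ≤ SL₃(F)`, `F` a finite field, containing `x₁₃(s₁)`, `x₃₁(s₂)` with `s₁ s₂` generating
`F`, a non-trivial transvection with axis `e₂ᵀ` and a non-trivial transvection with centre `e₂`,
is everything.
-/

namespace Cfsg.Agent.SL3G

open Matrix

variable {F : Type*} [Field F]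

/-- A set of pairs which is an additive subgroup of `F²` stable under `(a,b) ↦ (a + s₁ b, b)` and
`(a,b) ↦ (a, b + s₂ a)`, with `s₁ s₂` generating the finite field `F`, containing a non-zero pair,
is everything. -/
theorem pairs_full [Finite F] (V : F → F → Prop) (s1 s2 : F) (hs1 : s1 ≠ 0) (hs2 : s2 ≠ 0)
    (hgen : Subfield.closure ({s1 * s2} : Set F) = ⊤)
    (hzero : V 0 0)
    (hadd : ∀ a b a' b', V a b → V a' b' → V (a + a') (b + b'))
    (hneg : ∀ a b, V a b → V (-a) (-b))
    (h1 : ∀ a b, V a b → V (a + s1 * b) b)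
    (h2 : ∀ a b, V a b → V a (b + s2 * a))
    (w1 w3 : F) (hw : V w1 w3) (hne : w1 ≠ 0 ∨ w3 ≠ 0) : ∀ a b, V a b := by
  classical
  have hsub : ∀ a b a' b', V a b → V a' b' → V (a - a') (b - b') := by
    intro a b a' b' h h'
    have := hadd _ _ _ _ h (hneg _ _ h')
    rwa [← sub_eq_add_neg, ← sub_eq_add_neg] at this
  -- (τ₁ - 1) and (τ₂ - 1)
  have d1 : ∀ a b, V a b → V (s1 * b) 0 := by
    intro a b h
    have := hsub _ _ _ _ (h1 a b h) h
    rwa [add_sub_cancel_left, sub_self] at this
  have d2 : ∀ a b, V a b → V 0 (s2 * a) := by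
    intro a b h
    have := hsub _ _ _ _ (h2 a b h) h
    rwa [add_sub_cancel_left, sub_self] at this
  -- multiplication by `s1 * s2`
  have hlam : ∀ a b, V a b → V (s1 * s2 * a) (s1 * s2 * b) := by
    intro a b h
    have e1 := d1 _ _ (d2 a b h)
    have e2 := d2 _ _ (d1 a b h)
    have := hadd _ _ _ _ e1 e2
    rw [add_zero, zero_add] at this
    have ea : s1 * (s2 * a) = s1 * s2 * a := by ring
    have eb : s2 * (s1 * b) = s1 * s2 * b := by ring
    rwa [ea, eb] at this
  -- the subfield of scalars preserving `V`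
  have hpow : ∀ (k : F), (∀ a b, V a b → V (k * a) (k * b)) → ∀ n : ℕ,
      ∀ a b, V a b → V (k ^ n * a) (k ^ n * b) := by
    intro k hk n
    induction n with
    | zero => intro a b h; simpa using h
    | succ n ih =>
      intro a b h
      have := hk _ _ (ih a b h)
      have ea : k * (k ^ n * a) = k ^ (n + 1) * a := by ring
      have eb : k * (k ^ n * b) = k ^ (n + 1) * b := by ring
      rwa [ea, eb] at this
  let S : Subfield F :=
    { carrier := {k | ∀ a b, V a b → V (k * a) (k * b)}
      mul_mem' := by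
        intro k k' hk hk' a b h
        have := hk _ _ (hk' a b h)
        rwa [← mul_assoc, ← mul_assoc] at this
      one_mem' := by
        intro a b h
        simpa using h
      add_mem' := by
        intro k k' hk hk' a b h
        have := hadd _ _ _ _ (hk a b h) (hk' a b h)
        rwa [← add_mul, ← add_mul] at this
      zero_mem' := by
        intro a b _
        simpa using hzero
      neg_mem' := by
        intro k hk a b h
        have := hneg _ _ (hk a b h)
        rwa [← neg_mul, ← neg_mul] at this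
      inv_mem' := by
        intro k hk
        by_cases hk0 : k = 0
        · subst hk0
          intro a b _
          simpa using hzero
        · have : Fintype F := Fintype.ofFinite F
          have hcard : k ^ (Fintype.card F - 1) = 1 := FiniteField.pow_card_sub_one_eq_one k hk0
          have h2le : 2 ≤ Fintype.card F := Fintype.one_lt_card
          have hinv : k⁻¹ = k ^ (Fintype.card F - 2) := by
            have : k * k ^ (Fintype.card F - 2) = 1 := by
              rw [← pow_succ', show Fintype.card F - 2 + 1 = Fintype.card F - 1 by omega, hcard]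
            exact (eq_inv_of_mul_eq_one_right this).symm ▸ rfl
          show ∀ a b, V a b → V (k⁻¹ * a) (k⁻¹ * b)
          rw [hinv]
          exact hpow k hk _ }
  have hS : S = ⊤ := by
    rw [eq_top_iff, ← hgen, Subfield.closure_le]
    intro x hx
    rw [Set.mem_singleton_iff] at hx
    subst hx
    exact hlam
  have hscal : ∀ k a b, V a b → V (k * a) (k * b) := by
    intro k
    have : k ∈ S := by rw [hS]; exact Subfield.mem_top k
    exact this
  -- a non-zero element on the first axis
  have hax1 : ∃ c : F, c ≠ 0 ∧ V c 0 := by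
    rcases hne with h | h
    · have e := d2 _ _ hw
      have e' := d1 _ _ e
      exact ⟨s1 * (s2 * w1), mul_ne_zero hs1 (mul_ne_zero hs2 h), e'⟩
    · exact ⟨s1 * w3, mul_ne_zero hs1 h, d1 _ _ hw⟩
  obtain ⟨c, hc, hVc⟩ := hax1
  have hA : ∀ a, V a 0 := by
    intro a
    have := hscal (a * c⁻¹) _ _ hVc
    rwa [mul_assoc, inv_mul_cancel₀ hc, mul_one, mul_zero] at this
  have hB : ∀ b, V 0 b := by
    intro b
    have := d2 _ _ (hA (s2⁻¹ * b))
    rwa [← mul_assoc, mul_inv_cancel₀ hs2, one_mul] at this
  intro a b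
  have := hadd _ _ _ _ (hA a) (hB b)
  rwa [add_zero, zero_add] at this

variable {H : Subgroup (Matrix.SpecialLinearGroup (Fin 3) F)}

/-- **General position lemma.** -/
theorem gp_top [Finite F] (s1 s2 : F) (hs1 : s1 ≠ 0) (hs2 : s2 ≠ 0)
    (hgen : Subfield.closure ({s1 * s2} : Set F) = ⊤)
    (h13 : Has H !![1, 0, s1; 0, 1, 0; 0, 0, 1])
    (h31 : Has H !![1, 0, 0; 0, 1, 0; s2, 0, 1])
    (w1 w3 : F) (hw : w1 ≠ 0 ∨ w3 ≠ 0) (hax : Has H !![1, w1, 0; 0, 1, 0; 0, w3, 1])
    (c1 c3 : F) (hc : c1 ≠ 0 ∨ c3 ≠ 0) (hce : Has H !![1, 0, 0; c1, 1, c3; 0, 0, 1]) : H = ⊤ := by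
  have h13' : Has H !![1, 0, -s1; 0, 1, 0; 0, 0, 1] := h13.inv (by
    rw [Matrix.mul_fin_three, Matrix.one_fin_three]; congr 1 <;> simp)
  have h31' : Has H !![1, 0, 0; 0, 1, 0; -s2, 0, 1] := h31.inv (by
    rw [Matrix.mul_fin_three, Matrix.one_fin_three]; congr 1 <;> simp)
  -- transvections with axis `e₂ᵀ`
  have hA : ∀ a b, Has H !![1, a, 0; 0, 1, 0; 0, b, 1] := by
    refine pairs_full (fun a b => Has H !![1, a, 0; 0, 1, 0; 0, b, 1]) s1 s2 hs1 hs2 hgen ?_ ?_ ?_ ?_ ?_
      w1 w3 hax hw
    · exact Has.one.congr (by rw [Matrix.one_fin_three])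
    · intro a b a' b' h h'
      exact (h.mul h').congr (by rw [Matrix.mul_fin_three]; congr 1 <;> simp <;> ring)
    · intro a b h
      exact h.inv (by rw [Matrix.mul_fin_three, Matrix.one_fin_three]; congr 1 <;> simp)
    · intro a b h
      exact ((h13.mul h).mul h13').congr (by
        rw [Matrix.mul_fin_three, Matrix.mul_fin_three]; congr 1 <;> simp <;> ring)
    · intro a b h
      exact ((h31.mul h).mul h31').congr (by
        rw [Matrix.mul_fin_three, Matrix.mul_fin_three]; congr 1 <;> simp <;> ring)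
  -- transvections with centre `e₂`
  have hB : ∀ a b, Has H !![1, 0, 0; a, 1, b; 0, 0, 1] := by
    refine pairs_full (fun b a => Has H !![1, 0, 0; a, 1, b; 0, 0, 1]) (-s1) (-s2)
      (neg_ne_zero.mpr hs1) (neg_ne_zero.mpr hs2) (by rwa [neg_mul_neg]) ?_ ?_ ?_ ?_ ?_
      c3 c1 hce hc.symm |> fun h a b => h b a
    · exact Has.one.congr (by rw [Matrix.one_fin_three])
    · intro a b a' b' h h'
      exact (h.mul h').congr (by rw [Matrix.mul_fin_three]; congr 1 <;> simp <;> ring)
    · intro a b h
      exact h.inv (by rw [Matrix.mul_fin_three, Matrix.one_fin_three]; congr 1 <;> simp)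
    · intro a b h
      exact ((h13.mul h).mul h13').congr (by
        rw [Matrix.mul_fin_three, Matrix.mul_fin_three]; congr 1 <;> simp <;> ring)
    · intro a b h
      exact ((h31.mul h).mul h31').congr (by
        rw [Matrix.mul_fin_three, Matrix.mul_fin_three]; congr 1 <;> simp <;> ring)
  have h12 : ∀ s : F, Has H !![1, s, 0; 0, 1, 0; 0, 0, 1] := fun s => hA s 0
  have h32 : ∀ s : F, Has H !![1, 0, 0; 0, 1, 0; 0, s, 1] := fun s => hA 0 s
  have h21 : ∀ s : F, Has H !![1, 0, 0; s, 1, 0; 0, 0, 1] := fun s => hB s 0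
  have h23 : ∀ s : F, Has H !![1, 0, 0; 0, 1, s; 0, 0, 1] := fun s => hB 0 s
  refine eq_top_of_elementary h12 ?_ h21 h23 ?_ h32
  · intro s
    exact ((((h12 s).mul (h23 1)).mul (h12 (-s))).mul (h23 (-1))).congr (by
      rw [Matrix.mul_fin_three, Matrix.mul_fin_three, Matrix.mul_fin_three]; congr 1 <;> simp)
  · intro s
    exact ((((h32 s).mul (h21 1)).mul (h32 (-s))).mul (h21 (-1))).congr (by
      rw [Matrix.mul_fin_three, Matrix.mul_fin_three, Matrix.mul_fin_three]; congr 1 <;> simp)

end Cfsg.Agent.SL3G
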