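import Mathlib
import Cfsg.Agent.SL3G.Base

set_option autoImplicit false
set_option linter.unusedSectionVars false

/-!
# The goal of S2278 and a reduction lemma (helper6)
-/

namespace Cfsg.Agent.SL3G

open Matrix

variable {F : Type*} [Field F]

/-- entrywise equality of explicit `3 × 3` matrices. -/
theorem mat3_ext {a11 a12 a13 a21 a22 a23 a31 a32 a33 b11 b12 b13 b21 b22 b23 b31 b32 b33 : F}
    (h11 : a11 = b11) (h12 : a12 = b12) (h13 : a13 = b13)
    (h21 : a21 = b21) (h22 : a22 = b22) (h23 : a23 = b23)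
    (h31 : a31 = b31) (h32 : a32 = b32) (h33 : a33 = b33) :
    !![a11, a12, a13; a21, a22, a23; a31, a32, a33] = !![b11, b12, b13; b21, b22, b23; b31, b32, b33] := by
  subst h11 h12 h13 h21 h22 h23 h31 h32 h33
  rfl

/-- the conclusion of S2278. -/
def Goal (F : Type*) [Field F] : Prop :=
  ∃ u g : Matrix.SpecialLinearGroup (Fin 3) F,
    IsNilpotent ((u : Matrix (Fin 3) (Fin 3) F) - 1) ∧
    ((u : Matrix (Fin 3) (Fin 3) F) - 1) ^ (3 - 1) ≠ 0 ∧
    Subgroup.closure ({u, g * u * g⁻¹} : Set (Matrix.SpecialLinearGroup (Fin 3) F)) = ⊤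

theorem det_upper (a b c : F) : (!![1, a, c; 0, 1, b; 0, 0, 1] : Matrix (Fin 3) (Fin 3) F).det = 1 := by
  rw [Matrix.det_fin_three]
  simp

/-- **Reduction.** To prove the goal it suffices to give a regular upper unitriangular `U`, a matrix
`G` of determinant `1` and a matrix `V` with `G U = V G` such that every subgroup containing `U` and
`V` is everything. -/
theorem goal_of (a b c : F) (hab : a * b ≠ 0) (G V : Matrix (Fin 3) (Fin 3) F) (hdet : G.det = 1)
    (hconj : G * !![1, a, c; 0, 1, b; 0, 0, 1] = V * G)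
    (htop : ∀ H : Subgroup (Matrix.SpecialLinearGroup (Fin 3) F),
      Has H !![1, a, c; 0, 1, b; 0, 0, 1] → Has H V → H = ⊤) : Goal F := by
  let u : Matrix.SpecialLinearGroup (Fin 3) F := ⟨!![1, a, c; 0, 1, b; 0, 0, 1], det_upper a b c⟩
  let g : Matrix.SpecialLinearGroup (Fin 3) F := ⟨G, hdet⟩
  have hu : (u : Matrix (Fin 3) (Fin 3) F) = !![1, a, c; 0, 1, b; 0, 0, 1] := rfl
  have hg : (g : Matrix (Fin 3) (Fin 3) F) = G := rfl
  have hv : ((g * u * g⁻¹ : Matrix.SpecialLinearGroup (Fin 3) F) : Matrix (Fin 3) (Fin 3) F) = V := by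
    have h1 : (g : Matrix (Fin 3) (Fin 3) F)
        * ((g⁻¹ : Matrix.SpecialLinearGroup (Fin 3) F) : Matrix (Fin 3) (Fin 3) F) = 1 := by
      rw [← Matrix.SpecialLinearGroup.coe_mul, mul_inv_cancel, Matrix.SpecialLinearGroup.coe_one]
    rw [Matrix.SpecialLinearGroup.coe_mul, Matrix.SpecialLinearGroup.coe_mul, hu, hg, hconj,
      Matrix.mul_assoc, ← hg, h1, mul_one]
  have hN : (u : Matrix (Fin 3) (Fin 3) F) - 1 = !![0, a, c; 0, 0, b; 0, 0, 0] := by
    rw [hu, Matrix.one_fin_three]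
    ext i j
    fin_cases i <;> fin_cases j <;> simp
  have hN2 : (!![0, a, c; 0, 0, b; 0, 0, 0] : Matrix (Fin 3) (Fin 3) F) ^ 2
      = !![0, 0, a * b; 0, 0, 0; 0, 0, 0] := by
    rw [pow_two, Matrix.mul_fin_three]
    exact mat3_ext (by ring) (by ring) (by ring) (by ring) (by ring) (by ring) (by ring) (by ring)
      (by ring)
  refine ⟨u, g, ?_, ?_, ?_⟩
  · refine ⟨3, ?_⟩
    rw [hN, pow_succ, hN2, Matrix.mul_fin_three, ← Matrix.ext_iff]
    intro i j
    fin_cases i <;> fin_cases j <;> simp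
  · rw [hN]
    show (!![0, a, c; 0, 0, b; 0, 0, 0] : Matrix (Fin 3) (Fin 3) F) ^ 2 ≠ 0
    rw [hN2]
    intro h
    have := congrFun (congrFun h 0) 2
    simp at this
    rcases this with h | h
    · exact hab (by rw [h, zero_mul])
    · exact hab (by rw [h, mul_zero])
  · apply htop
    · exact ⟨u, Subgroup.subset_closure (Set.mem_insert _ _), hu⟩
    · exact ⟨g * u * g⁻¹, Subgroup.subset_closure (Set.mem_insert_of_mem _ rfl), hv⟩

end Cfsg.Agent.SL3G
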