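import Mathlib
import Cfsg.Agent.SL3G.GP
import Cfsg.Agent.SL3G.Goal

set_option autoImplicit false
set_option linter.unusedSectionVars false

/-!
# Characteristic 2 (helper6)

In characteristic `2` the elements `u = U(1,1,0)` and `v = L(κ,1,0)` generate `SL₃(F)` as soon as `κ`
generates the field `F`; they are conjugate when `κ` is a cube.
-/

namespace Cfsg.Agent.SL3G

open Matrix

variable {F : Type*} [Field F]

/-- In characteristic `2`, a subgroup containing `U(1,1,0)` and `L(k,1,0)`, `k` a generator of the
field `F`, is everything. -/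
theorem top_char2 [Finite F] (h2 : (2 : F) = 0) (k : F) (hk : k ≠ 0)
    (hgen : Subfield.closure ({k} : Set F) = ⊤)
    (H : Subgroup (Matrix.SpecialLinearGroup (Fin 3) F))
    (hU : Has H !![1, 1, 0; 0, 1, 1; 0, 0, 1]) (hV : Has H !![1, 0, 0; k, 1, 0; 0, 1, 1]) : H = ⊤ := by
  have h13 : Has H !![1, 0, 1; 0, 1, 0; 0, 0, 1] := (hU.mul hU).congr (by
    rw [Matrix.mul_fin_three]
    exact mat3_ext (by ring) (by linear_combination ((1)) * h2) (by ring) (by ring) (by ring) (by linear_combination ((1)) * h2) (by ring) (by ring) (by ring))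
  have h31 : Has H !![1, 0, 0; 0, 1, 0; k, 0, 1] := (hV.mul hV).congr (by
    rw [Matrix.mul_fin_three]
    exact mat3_ext (by ring) (by ring) (by ring) (by linear_combination ((1)*k) * h2) (by ring) (by ring) (by ring) (by linear_combination ((1)) * h2) (by ring))
  have hM : Has H !![1, 1, 0; k, 1 + k, 1; 0, 1, 0] := (hV.mul hU).congr (by
    rw [Matrix.mul_fin_three]
    exact mat3_ext (by ring) (by ring) (by ring) (by ring) (by ring) (by ring) (by ring) (by ring) (by linear_combination ((1)) * h2))
  have hMi : Has H !![1, 0, 1; 0, 0, 1; k, 1, 1] := hM.inv (by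
    rw [Matrix.mul_fin_three, Matrix.one_fin_three]
    exact mat3_ext (by ring) (by ring) (by linear_combination ((1)) * h2) (by linear_combination ((1)*k) * h2) (by ring) (by linear_combination ((1) + (1)*k) * h2) (by ring) (by ring) (by ring))
  have hA : Has H !![1, 1, 0; 0, 1, 0; 0, k, 1] := ((hMi.mul h13).mul hM).congr (by
    rw [Matrix.mul_fin_three, Matrix.mul_fin_three]
    exact mat3_ext (by ring) (by linear_combination ((1)) * h2) (by ring) (by ring) (by ring) (by ring) (by linear_combination ((1)*k) * h2) (by linear_combination ((1) + (1)*k) * h2) (by ring))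
  have hB : Has H !![1, 0, 0; k, 1, k; 0, 0, 1] := ((hM.mul h31).mul hMi).congr (by
    rw [Matrix.mul_fin_three, Matrix.mul_fin_three]
    exact mat3_ext (by ring) (by ring) (by linear_combination ((1)) * h2) (by linear_combination ((1)*k) * h2) (by ring) (by linear_combination ((1) + (1)*k) * h2) (by ring) (by ring) (by ring))
  exact gp_top 1 k one_ne_zero hk (by rwa [one_mul]) h13 h31 1 k (Or.inl one_ne_zero) hA k k
    (Or.inl hk) hB

/-- The goal in characteristic `2`, given `z` whose cube generates `F`. -/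
theorem goal_char2 [Finite F] (h2 : (2 : F) = 0) (z : F) (hz : z ≠ 0)
    (hgen : Subfield.closure ({z ^ 3} : Set F) = ⊤) : Goal F := by
  have hzi : z * z⁻¹ = 1 := mul_inv_cancel₀ hz
  refine goal_of 1 1 0 (by simp) !![0, 0, (z⁻¹) ^ 2; 0, z, 0; z, 0, 0] !![1, 0, 0; z ^ 3, 1, 0; 0, 1, 1]
    ?_ ?_ (fun H hU hV => top_char2 h2 (z ^ 3) (pow_ne_zero 3 hz) hgen H hU hV)
  · rw [Matrix.det_fin_three]
    simp only [Matrix.of_apply, Matrix.cons_val', Matrix.cons_val_zero, Matrix.cons_val_one,
      Matrix.cons_val_two, Matrix.empty_val', Matrix.cons_val_fin_one, Matrix.head_cons,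
      Matrix.tail_cons, Matrix.head_fin_const]
    linear_combination (-(z * z⁻¹ + 1)) * hzi + (-1) * h2
  · rw [Matrix.mul_fin_three, Matrix.mul_fin_three]
    exact mat3_ext (by ring) (by ring) (by ring) (by ring) (by ring)
      (by linear_combination (-(z * (z * z⁻¹ + 1))) * hzi) (by ring) (by ring) (by ring)

end Cfsg.Agent.SL3G
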