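import Mathlib

/-!
# S2278 swarm, piece Q4 (helper3): the field with four elements

For a field `F` with four elements and `w : F` with `w ^ 2 = w + 1`, the regular unipotent
`u = !![1,1,w;0,1,1;0,0,1]` and its conjugate `v = g u g⁻¹ = !![1,0,0;w,1,0;1,w,1]`
(`g` the antidiagonal monomial matrix `(1, w, w+1)`) generate a subgroup containing
`x13(1) = u²`, `x31(w+1) = v²`, `x12(w+1) = (u v u⁻¹) v² (u v u⁻¹)⁻¹` and
`x23(w+1) = (u v⁻¹ u) v² (u v⁻¹ u)⁻¹`.  These are the inputs of the general-position lemma.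
All matrix identities are checked entrywise by `linear_combination` certificates
(modulo `w ^ 2 = w + 1` and `2 = 0`) produced by a script.
-/

namespace Cfsg.Agent.SL3G

open Matrix

theorem h3_mk_eq {F : Type*} {a b c d e f g h i a' b' c' d' e' f' g' h' i' : F}
    (h11 : a = a') (h12 : b = b') (h13 : c = c') (h21 : d = d') (h22 : e = e') (h23 : f = f')
    (h31 : g = g') (h32 : h = h') (h33 : i = i') :
    (!![a,b,c;d,e,f;g,h,i] : Matrix (Fin 3) (Fin 3) F) = !![a',b',c';d',e',f';g',h',i'] := by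
  subst h11 h12 h13 h21 h22 h23 h31 h32 h33
  rfl

variable {F : Type*} [Field F]

theorem h3_det_of (a b c d e f g h i : F) :
    Matrix.det (!![a,b,c;d,e,f;g,h,i] : Matrix (Fin 3) (Fin 3) F) =
      a * e * i - a * f * h - b * d * i + b * f * g + c * d * h - c * e * g := by
  rw [Matrix.det_fin_three]
  rfl

theorem h3_sl_ext {A B : Matrix.SpecialLinearGroup (Fin 3) F}
    (h : (A : Matrix (Fin 3) (Fin 3) F) = (B : Matrix (Fin 3) (Fin 3) F)) : A = B :=
  Subtype.ext h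

theorem h3_g_mul_u (w : F) (hw : w ^ 2 = w + 1) (h2 : (2 : F) = 0) :
    (!![0,0,1;0,w,0;(w+1),0,0] : Matrix (Fin 3) (Fin 3) F) * !![1,1,w;0,1,1;0,0,1] = !![0,0,1;0,w,w;(w+1),(w+1),1] := by
  rw [Matrix.mul_fin_three]
  apply h3_mk_eq
  · linear_combination 0 * hw + 0 * h2
  · linear_combination 0 * hw + 0 * h2
  · linear_combination 0 * hw + 0 * h2
  · linear_combination 0 * hw + 0 * h2
  · linear_combination 0 * hw + 0 * h2
  · linear_combination 0 * hw + 0 * h2
  · linear_combination 0 * hw + 0 * h2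
  · linear_combination 0 * hw + 0 * h2
  · linear_combination (1) * hw + (w) * h2

theorem h3_v_mul_g (w : F) (hw : w ^ 2 = w + 1) (h2 : (2 : F) = 0) :
    (!![1,0,0;w,1,0;1,w,1] : Matrix (Fin 3) (Fin 3) F) * !![0,0,1;0,w,0;(w+1),0,0] = !![0,0,1;0,w,w;(w+1),(w+1),1] := by
  rw [Matrix.mul_fin_three]
  apply h3_mk_eq
  · linear_combination 0 * hw + 0 * h2
  · linear_combination 0 * hw + 0 * h2
  · linear_combination 0 * hw + 0 * h2
  · linear_combination 0 * hw + 0 * h2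
  · linear_combination 0 * hw + 0 * h2
  · linear_combination 0 * hw + 0 * h2
  · linear_combination 0 * hw + 0 * h2
  · linear_combination (1) * hw + 0 * h2
  · linear_combination 0 * hw + 0 * h2

theorem h3_u_mul_u (w : F) (hw : w ^ 2 = w + 1) (h2 : (2 : F) = 0) :
    (!![1,1,w;0,1,1;0,0,1] : Matrix (Fin 3) (Fin 3) F) * !![1,1,w;0,1,1;0,0,1] = !![1,0,1;0,1,0;0,0,1] := by
  rw [Matrix.mul_fin_three]
  apply h3_mk_eq
  · linear_combination 0 * hw + 0 * h2
  · linear_combination 0 * hw + (1) * h2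
  · linear_combination 0 * hw + (w) * h2
  · linear_combination 0 * hw + 0 * h2
  · linear_combination 0 * hw + 0 * h2
  · linear_combination 0 * hw + (1) * h2
  · linear_combination 0 * hw + 0 * h2
  · linear_combination 0 * hw + 0 * h2
  · linear_combination 0 * hw + 0 * h2

theorem h3_v_mul_v (w : F) (hw : w ^ 2 = w + 1) (h2 : (2 : F) = 0) :
    (!![1,0,0;w,1,0;1,w,1] : Matrix (Fin 3) (Fin 3) F) * !![1,0,0;w,1,0;1,w,1] = !![1,0,0;0,1,0;(w+1),0,1] := by
  rw [Matrix.mul_fin_three]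
  apply h3_mk_eq
  · linear_combination 0 * hw + 0 * h2
  · linear_combination 0 * hw + 0 * h2
  · linear_combination 0 * hw + 0 * h2
  · linear_combination 0 * hw + (w) * h2
  · linear_combination 0 * hw + 0 * h2
  · linear_combination 0 * hw + 0 * h2
  · linear_combination (1) * hw + (1) * h2
  · linear_combination 0 * hw + (w) * h2
  · linear_combination 0 * hw + 0 * h2

theorem h3_u_mul_ui (w : F) (hw : w ^ 2 = w + 1) (h2 : (2 : F) = 0) :
    (!![1,1,w;0,1,1;0,0,1] : Matrix (Fin 3) (Fin 3) F) * !![1,1,(w+1);0,1,1;0,0,1] = !![1,0,0;0,1,0;0,0,1] := by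
  rw [Matrix.mul_fin_three]
  apply h3_mk_eq
  · linear_combination 0 * hw + 0 * h2
  · linear_combination 0 * hw + (1) * h2
  · linear_combination 0 * hw + (1 + w) * h2
  · linear_combination 0 * hw + 0 * h2
  · linear_combination 0 * hw + 0 * h2
  · linear_combination 0 * hw + (1) * h2
  · linear_combination 0 * hw + 0 * h2
  · linear_combination 0 * hw + 0 * h2
  · linear_combination 0 * hw + 0 * h2

theorem h3_v_mul_vi (w : F) (hw : w ^ 2 = w + 1) (h2 : (2 : F) = 0) :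
    (!![1,0,0;w,1,0;1,w,1] : Matrix (Fin 3) (Fin 3) F) * !![1,0,0;w,1,0;w,w,1] = !![1,0,0;0,1,0;0,0,1] := by
  rw [Matrix.mul_fin_three]
  apply h3_mk_eq
  · linear_combination 0 * hw + 0 * h2
  · linear_combination 0 * hw + 0 * h2
  · linear_combination 0 * hw + 0 * h2
  · linear_combination 0 * hw + (w) * h2
  · linear_combination 0 * hw + 0 * h2
  · linear_combination 0 * hw + 0 * h2
  · linear_combination (1) * hw + (1 + w) * h2
  · linear_combination 0 * hw + (w) * h2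
  · linear_combination 0 * hw + 0 * h2

theorem h3_u_mul_v (w : F) (hw : w ^ 2 = w + 1) (h2 : (2 : F) = 0) :
    (!![1,1,w;0,1,1;0,0,1] : Matrix (Fin 3) (Fin 3) F) * !![1,0,0;w,1,0;1,w,1] = !![1,w,w;(w+1),(w+1),1;1,w,1] := by
  rw [Matrix.mul_fin_three]
  apply h3_mk_eq
  · linear_combination 0 * hw + (w) * h2
  · linear_combination (1) * hw + (1) * h2
  · linear_combination 0 * hw + 0 * h2
  · linear_combination 0 * hw + 0 * h2
  · linear_combination 0 * hw + 0 * h2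
  · linear_combination 0 * hw + 0 * h2
  · linear_combination 0 * hw + 0 * h2
  · linear_combination 0 * hw + 0 * h2
  · linear_combination 0 * hw + 0 * h2

theorem h3_uv_mul_ui (w : F) (hw : w ^ 2 = w + 1) (h2 : (2 : F) = 0) :
    (!![1,w,w;(w+1),(w+1),1;1,w,1] : Matrix (Fin 3) (Fin 3) F) * !![1,1,(w+1);0,1,1;0,0,1] = !![1,(w+1),(w+1);(w+1),0,0;1,(w+1),0] := by
  rw [Matrix.mul_fin_three]
  apply h3_mk_eq
  · linear_combination 0 * hw + 0 * h2
  · linear_combination 0 * hw + 0 * h2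
  · linear_combination 0 * hw + (w) * h2
  · linear_combination 0 * hw + 0 * h2
  · linear_combination 0 * hw + (1 + w) * h2
  · linear_combination (1) * hw + (2 + 2*w) * h2
  · linear_combination 0 * hw + 0 * h2
  · linear_combination 0 * hw + 0 * h2
  · linear_combination 0 * hw + (1 + w) * h2

theorem h3_A_mul_x31 (w : F) (hw : w ^ 2 = w + 1) (h2 : (2 : F) = 0) :
    (!![1,(w+1),(w+1);(w+1),0,0;1,(w+1),0] : Matrix (Fin 3) (Fin 3) F) * !![1,0,0;0,1,0;(w+1),0,1] = !![(w+1),(w+1),(w+1);(w+1),0,0;1,(w+1),0] := by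
  rw [Matrix.mul_fin_three]
  apply h3_mk_eq
  · linear_combination (1) * hw + (1 + w) * h2
  · linear_combination 0 * hw + 0 * h2
  · linear_combination 0 * hw + 0 * h2
  · linear_combination 0 * hw + 0 * h2
  · linear_combination 0 * hw + 0 * h2
  · linear_combination 0 * hw + 0 * h2
  · linear_combination 0 * hw + 0 * h2
  · linear_combination 0 * hw + 0 * h2
  · linear_combination 0 * hw + 0 * h2

theorem h3_x12_mul_A (w : F) (hw : w ^ 2 = w + 1) (h2 : (2 : F) = 0) :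
    (!![1,(w+1),0;0,1,0;0,0,1] : Matrix (Fin 3) (Fin 3) F) * !![1,(w+1),(w+1);(w+1),0,0;1,(w+1),0] = !![(w+1),(w+1),(w+1);(w+1),0,0;1,(w+1),0] := by
  rw [Matrix.mul_fin_three]
  apply h3_mk_eq
  · linear_combination (1) * hw + (1 + w) * h2
  · linear_combination 0 * hw + 0 * h2
  · linear_combination 0 * hw + 0 * h2
  · linear_combination 0 * hw + 0 * h2
  · linear_combination 0 * hw + 0 * h2
  · linear_combination 0 * hw + 0 * h2
  · linear_combination 0 * hw + 0 * h2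
  · linear_combination 0 * hw + 0 * h2
  · linear_combination 0 * hw + 0 * h2

theorem h3_u_mul_vi (w : F) (hw : w ^ 2 = w + 1) (h2 : (2 : F) = 0) :
    (!![1,1,w;0,1,1;0,0,1] : Matrix (Fin 3) (Fin 3) F) * !![1,0,0;w,1,0;w,w,1] = !![0,w,w;0,(w+1),1;w,w,1] := by
  rw [Matrix.mul_fin_three]
  apply h3_mk_eq
  · linear_combination (1) * hw + (1 + w) * h2
  · linear_combination (1) * hw + (1) * h2
  · linear_combination 0 * hw + 0 * h2
  · linear_combination 0 * hw + (w) * h2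
  · linear_combination 0 * hw + 0 * h2
  · linear_combination 0 * hw + 0 * h2
  · linear_combination 0 * hw + 0 * h2
  · linear_combination 0 * hw + 0 * h2
  · linear_combination 0 * hw + 0 * h2

theorem h3_uvi_mul_u (w : F) (hw : w ^ 2 = w + 1) (h2 : (2 : F) = 0) :
    (!![0,w,w;0,(w+1),1;w,w,1] : Matrix (Fin 3) (Fin 3) F) * !![1,1,w;0,1,1;0,0,1] = !![0,w,0;0,(w+1),w;w,0,0] := by
  rw [Matrix.mul_fin_three]
  apply h3_mk_eq
  · linear_combination 0 * hw + 0 * h2
  · linear_combination 0 * hw + 0 * h2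
  · linear_combination 0 * hw + (w) * h2
  · linear_combination 0 * hw + 0 * h2
  · linear_combination 0 * hw + 0 * h2
  · linear_combination 0 * hw + (1) * h2
  · linear_combination 0 * hw + 0 * h2
  · linear_combination 0 * hw + (w) * h2
  · linear_combination (1) * hw + (1 + w) * h2

theorem h3_B_mul_x31 (w : F) (hw : w ^ 2 = w + 1) (h2 : (2 : F) = 0) :
    (!![0,w,0;0,(w+1),w;w,0,0] : Matrix (Fin 3) (Fin 3) F) * !![1,0,0;0,1,0;(w+1),0,1] = !![0,w,0;1,(w+1),w;w,0,0] := by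
  rw [Matrix.mul_fin_three]
  apply h3_mk_eq
  · linear_combination 0 * hw + 0 * h2
  · linear_combination 0 * hw + 0 * h2
  · linear_combination 0 * hw + 0 * h2
  · linear_combination (1) * hw + (w) * h2
  · linear_combination 0 * hw + 0 * h2
  · linear_combination 0 * hw + 0 * h2
  · linear_combination 0 * hw + 0 * h2
  · linear_combination 0 * hw + 0 * h2
  · linear_combination 0 * hw + 0 * h2

theorem h3_x23_mul_B (w : F) (hw : w ^ 2 = w + 1) (h2 : (2 : F) = 0) :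
    (!![1,0,0;0,1,(w+1);0,0,1] : Matrix (Fin 3) (Fin 3) F) * !![0,w,0;0,(w+1),w;w,0,0] = !![0,w,0;1,(w+1),w;w,0,0] := by
  rw [Matrix.mul_fin_three]
  apply h3_mk_eq
  · linear_combination 0 * hw + 0 * h2
  · linear_combination 0 * hw + 0 * h2
  · linear_combination 0 * hw + 0 * h2
  · linear_combination (1) * hw + (w) * h2
  · linear_combination 0 * hw + 0 * h2
  · linear_combination 0 * hw + 0 * h2
  · linear_combination 0 * hw + 0 * h2
  · linear_combination 0 * hw + 0 * h2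
  · linear_combination 0 * hw + 0 * h2

section main

variable [Fintype F]

theorem h3_two_eq_zero (hF : Fintype.card F = 4) : (2 : F) = 0 := by
  have h4 : ((Fintype.card F : ℕ) : F) = 0 := Nat.cast_card_eq_zero F
  rw [hF] at h4
  have h22 : (2 : F) * 2 = 0 := by
    have : ((4 : ℕ) : F) = 2 * 2 := by norm_num
    rw [← this]; exact h4
  exact mul_self_eq_zero.mp h22

theorem h3_exists_w (hF : Fintype.card F = 4) :
    ∃ w : F, w ≠ 0 ∧ w ≠ 1 ∧ w ^ 2 = w + 1 := by
  classical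
  have h2 := h3_two_eq_zero hF
  obtain ⟨w, -, hw⟩ : ∃ w, w ∈ (Finset.univ : Finset F) ∧ w ∉ ({0, 1} : Finset F) := by
    apply Finset.exists_mem_notMem_of_card_lt_card
    rw [Finset.card_univ, hF]
    exact lt_of_le_of_lt Finset.card_le_two (by norm_num)
  simp only [Finset.mem_insert, Finset.mem_singleton, not_or] at hw
  refine ⟨w, hw.1, hw.2, ?_⟩
  have h4 : w ^ 4 = w := by
    have := FiniteField.pow_card w
    rwa [hF] at this
  have h0 : w * (w - 1) * (w ^ 2 + w + 1) = 0 := by linear_combination h4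
  rcases mul_eq_zero.mp h0 with h | h
  · rcases mul_eq_zero.mp h with h | h
    · exact absurd h hw.1
    · exact absurd (sub_eq_zero.mp h) hw.2
  · linear_combination h - (w + 1) * h2

/-- In a field with four elements, `w + 1` (for `w ≠ 0, 1`) generates the whole field. -/
theorem h3_closure_top (hF : Fintype.card F = 4) (w : F) (hw0 : w ≠ 0) (hw1 : w ≠ 1)
    (hw : w ^ 2 = w + 1) : Subfield.closure {(1 : F) * (w + 1)} = ⊤ := by
  classical
  have h2 := h3_two_eq_zero hF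
  rw [one_mul]
  set K := Subfield.closure {w + 1} with hK
  have hmem : w + 1 ∈ K := Subfield.subset_closure (Set.mem_singleton _)
  have hwK : w ∈ K := by
    have : w = (w + 1) - 1 := by ring
    rw [this]; exact K.sub_mem hmem K.one_mem
  -- the four elements 0, 1, w, w+1 are all of F
  have hne : w + 1 ≠ 0 := by
    intro h
    apply hw1
    linear_combination h - h2
  have hne1 : w + 1 ≠ 1 := by
    intro h; apply hw0; linear_combination h
  have hnew : w + 1 ≠ w := by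
    intro h
    have : (1 : F) = 0 := by linear_combination h
    exact one_ne_zero this
  have hcard : ({0, 1, w, w + 1} : Finset F).card = 4 := by
    rw [Finset.card_insert_of_notMem, Finset.card_insert_of_notMem, Finset.card_insert_of_notMem,
      Finset.card_singleton]
    · simp only [Finset.mem_singleton]; exact fun h => hnew h.symm
    · simp only [Finset.mem_insert, Finset.mem_singleton, not_or]
      exact ⟨fun h => hw1 h.symm, fun h => hne1 h.symm⟩
    · simp only [Finset.mem_insert, Finset.mem_singleton, not_or]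
      exact ⟨zero_ne_one, fun h => hw0 h.symm, fun h => hne h.symm⟩
  have huniv : ({0, 1, w, w + 1} : Finset F) = Finset.univ := by
    apply Finset.eq_univ_of_card
    rw [hcard, hF]
  rw [eq_top_iff]
  intro x _
  have hx : x ∈ ({0, 1, w, w + 1} : Finset F) := by rw [huniv]; exact Finset.mem_univ x
  simp only [Finset.mem_insert, Finset.mem_singleton] at hx
  rcases hx with rfl | rfl | rfl | rfl
  · exact K.zero_mem
  · exact K.one_mem
  · exact hwK
  · exact hmem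

/-- Piece Q4: the four-element field. -/
theorem h3_Q4 (hF : Fintype.card F = 4) :
    ∃ w : F, w ^ 2 = w + 1 ∧ w + 1 ≠ 0 ∧ Subfield.closure {(1 : F) * (w + 1)} = ⊤ ∧
    ∃ u g : SpecialLinearGroup (Fin 3) F,
      (u : Matrix (Fin 3) (Fin 3) F) = !![1,1,w;0,1,1;0,0,1] ∧
      ((g * u * g⁻¹ : SpecialLinearGroup (Fin 3) F) : Matrix (Fin 3) (Fin 3) F) =
        !![1,0,0;w,1,0;1,w,1] ∧
      (∃ h ∈ Subgroup.closure ({u, g * u * g⁻¹} : Set (SpecialLinearGroup (Fin 3) F)),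
        (h : Matrix (Fin 3) (Fin 3) F) = !![1,0,1;0,1,0;0,0,1]) ∧
      (∃ h ∈ Subgroup.closure ({u, g * u * g⁻¹} : Set (SpecialLinearGroup (Fin 3) F)),
        (h : Matrix (Fin 3) (Fin 3) F) = !![1,0,0;0,1,0;(w+1),0,1]) ∧
      (∃ h ∈ Subgroup.closure ({u, g * u * g⁻¹} : Set (SpecialLinearGroup (Fin 3) F)),
        (h : Matrix (Fin 3) (Fin 3) F) = !![1,(w+1),0;0,1,0;0,0,1]) ∧
      (∃ h ∈ Subgroup.closure ({u, g * u * g⁻¹} : Set (SpecialLinearGroup (Fin 3) F)),
        (h : Matrix (Fin 3) (Fin 3) F) = !![1,0,0;0,1,(w+1);0,0,1]) := by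
  have h2 := h3_two_eq_zero hF
  obtain ⟨w, hw0, hw1, hw⟩ := h3_exists_w hF
  have hne : w + 1 ≠ 0 := by
    intro h
    apply hw1
    linear_combination h - h2
  refine ⟨w, hw, hne, h3_closure_top hF w hw0 hw1 hw, ?_⟩
  -- the special linear elements
  let usl : SpecialLinearGroup (Fin 3) F :=
    ⟨!![1,1,w;0,1,1;0,0,1], by rw [h3_det_of]; ring⟩
  let vsl : SpecialLinearGroup (Fin 3) F :=
    ⟨!![1,0,0;w,1,0;1,w,1], by rw [h3_det_of]; ring⟩
  let uisl : SpecialLinearGroup (Fin 3) F :=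
    ⟨!![1,1,(w+1);0,1,1;0,0,1], by rw [h3_det_of]; ring⟩
  let visl : SpecialLinearGroup (Fin 3) F :=
    ⟨!![1,0,0;w,1,0;w,w,1], by rw [h3_det_of]; ring⟩
  let gsl : SpecialLinearGroup (Fin 3) F :=
    ⟨!![0,0,1;0,w,0;(w+1),0,0], by
      rw [h3_det_of]; linear_combination (-1) * hw + (-1 - w) * h2⟩
  let x13 : SpecialLinearGroup (Fin 3) F :=
    ⟨!![1,0,1;0,1,0;0,0,1], by rw [h3_det_of]; ring⟩
  let x31 : SpecialLinearGroup (Fin 3) F :=
    ⟨!![1,0,0;0,1,0;(w+1),0,1], by rw [h3_det_of]; ring⟩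
  let x12 : SpecialLinearGroup (Fin 3) F :=
    ⟨!![1,(w+1),0;0,1,0;0,0,1], by rw [h3_det_of]; ring⟩
  let x23 : SpecialLinearGroup (Fin 3) F :=
    ⟨!![1,0,0;0,1,(w+1);0,0,1], by rw [h3_det_of]; ring⟩
  -- basic identities in the special linear group
  have hconj : gsl * usl * gsl⁻¹ = vsl := by
    rw [mul_inv_eq_iff_eq_mul]
    apply h3_sl_ext
    show (!![0,0,1;0,w,0;(w+1),0,0] : Matrix (Fin 3) (Fin 3) F) * !![1,1,w;0,1,1;0,0,1] =
      !![1,0,0;w,1,0;1,w,1] * !![0,0,1;0,w,0;(w+1),0,0]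
    rw [h3_g_mul_u w hw h2, h3_v_mul_g w hw h2]
  have huu : usl * usl = x13 := by
    apply h3_sl_ext
    show (!![1,1,w;0,1,1;0,0,1] : Matrix (Fin 3) (Fin 3) F) * !![1,1,w;0,1,1;0,0,1] = !![1,0,1;0,1,0;0,0,1]
    exact h3_u_mul_u w hw h2
  have hvv : vsl * vsl = x31 := by
    apply h3_sl_ext
    show (!![1,0,0;w,1,0;1,w,1] : Matrix (Fin 3) (Fin 3) F) * !![1,0,0;w,1,0;1,w,1] = !![1,0,0;0,1,0;(w+1),0,1]
    exact h3_v_mul_v w hw h2
  have hui : usl⁻¹ = uisl := by
    rw [inv_eq_iff_mul_eq_one]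
    apply h3_sl_ext
    show (!![1,1,w;0,1,1;0,0,1] : Matrix (Fin 3) (Fin 3) F) * !![1,1,(w+1);0,1,1;0,0,1] = 1
    rw [Matrix.one_fin_three]
    exact h3_u_mul_ui w hw h2
  have hvi : vsl⁻¹ = visl := by
    rw [inv_eq_iff_mul_eq_one]
    apply h3_sl_ext
    show (!![1,0,0;w,1,0;1,w,1] : Matrix (Fin 3) (Fin 3) F) * !![1,0,0;w,1,0;w,w,1] = 1
    rw [Matrix.one_fin_three]
    exact h3_v_mul_vi w hw h2
  have hA : ((usl * vsl * uisl : SpecialLinearGroup (Fin 3) F) : Matrix (Fin 3) (Fin 3) F) =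
      !![1,(w+1),(w+1);(w+1),0,0;1,(w+1),0] := by
    show (!![1,1,w;0,1,1;0,0,1] : Matrix (Fin 3) (Fin 3) F) * !![1,0,0;w,1,0;1,w,1] *
      !![1,1,(w+1);0,1,1;0,0,1] = _
    rw [h3_u_mul_v w hw h2, h3_uv_mul_ui w hw h2]
  have hB : ((usl * visl * usl : SpecialLinearGroup (Fin 3) F) : Matrix (Fin 3) (Fin 3) F) =
      !![0,w,0;0,(w+1),w;w,0,0] := by
    show (!![1,1,w;0,1,1;0,0,1] : Matrix (Fin 3) (Fin 3) F) * !![1,0,0;w,1,0;w,w,1] *
      !![1,1,w;0,1,1;0,0,1] = _
    rw [h3_u_mul_vi w hw h2, h3_uvi_mul_u w hw h2]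
  have h12 : (usl * vsl * usl⁻¹) * (vsl * vsl) * (usl * vsl * usl⁻¹)⁻¹ = x12 := by
    rw [mul_inv_eq_iff_eq_mul, hui, hvv]
    apply h3_sl_ext
    show ((usl * vsl * uisl : SpecialLinearGroup (Fin 3) F) : Matrix (Fin 3) (Fin 3) F) * !![1,0,0;0,1,0;(w+1),0,1] =
      !![1,(w+1),0;0,1,0;0,0,1] * ((usl * vsl * uisl : SpecialLinearGroup (Fin 3) F) : Matrix (Fin 3) (Fin 3) F)
    rw [hA]
    show (!![1,(w+1),(w+1);(w+1),0,0;1,(w+1),0] : Matrix (Fin 3) (Fin 3) F) *
      !![1,0,0;0,1,0;(w+1),0,1] = !![1,(w+1),0;0,1,0;0,0,1] * _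
    rw [h3_A_mul_x31 w hw h2, h3_x12_mul_A w hw h2]
  have h23 : (usl * vsl⁻¹ * usl) * (vsl * vsl) * (usl * vsl⁻¹ * usl)⁻¹ = x23 := by
    rw [mul_inv_eq_iff_eq_mul, hvi, hvv]
    apply h3_sl_ext
    show ((usl * visl * usl : SpecialLinearGroup (Fin 3) F) : Matrix (Fin 3) (Fin 3) F) * !![1,0,0;0,1,0;(w+1),0,1] =
      !![1,0,0;0,1,(w+1);0,0,1] * ((usl * visl * usl : SpecialLinearGroup (Fin 3) F) : Matrix (Fin 3) (Fin 3) F)
    rw [hB]
    show (!![0,w,0;0,(w+1),w;w,0,0] : Matrix (Fin 3) (Fin 3) F) *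
      !![1,0,0;0,1,0;(w+1),0,1] = !![1,0,0;0,1,(w+1);0,0,1] * _
    rw [h3_B_mul_x31 w hw h2, h3_x23_mul_B w hw h2]
  -- membership in the closure
  have hu : usl ∈ Subgroup.closure ({usl, gsl * usl * gsl⁻¹} : Set (SpecialLinearGroup (Fin 3) F)) :=
    Subgroup.subset_closure (Set.mem_insert _ _)
  have hv : vsl ∈ Subgroup.closure ({usl, gsl * usl * gsl⁻¹} : Set (SpecialLinearGroup (Fin 3) F)) := by
    rw [← hconj]
    exact Subgroup.subset_closure (Set.mem_insert_of_mem _ (Set.mem_singleton _))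
  refine ⟨usl, gsl, rfl, ?_, ⟨usl * usl, ?_, ?_⟩, ⟨vsl * vsl, ?_, ?_⟩,
    ⟨(usl * vsl * usl⁻¹) * (vsl * vsl) * (usl * vsl * usl⁻¹)⁻¹, ?_, ?_⟩,
    ⟨(usl * vsl⁻¹ * usl) * (vsl * vsl) * (usl * vsl⁻¹ * usl)⁻¹, ?_, ?_⟩⟩
  · rw [hconj]
  · exact Subgroup.mul_mem _ hu hu
  · rw [huu]
  · exact Subgroup.mul_mem _ hv hv
  · rw [hvv]
  · have ha := Subgroup.mul_mem _ (Subgroup.mul_mem _ hu hv) (Subgroup.inv_mem _ hu)
    exact Subgroup.mul_mem _ (Subgroup.mul_mem _ ha (Subgroup.mul_mem _ hv hv)) (Subgroup.inv_mem _ ha)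
  · rw [h12]
  · have hb := Subgroup.mul_mem _ (Subgroup.mul_mem _ hu (Subgroup.inv_mem _ hv)) hu
    exact Subgroup.mul_mem _ (Subgroup.mul_mem _ hb (Subgroup.mul_mem _ hv hv)) (Subgroup.inv_mem _ hb)
  · rw [h23]

end main

end Cfsg.Agent.SL3G
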