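import Mathlib
import Cfsg.Agent.Helper7.Transvections

set_option autoImplicit false

/-!
# S2278 swarm, piece GA ("Plan A" lemma), helper2

A subgroup `H` of `SL₃(F)` (`F` a finite field) containing an upper unitriangular matrix
`U(a,b,c)` with `a b ≠ 0` and a monomial matrix `n = antidiag(x, y, z)` such that
`θ = x z / y²` satisfies `θ² ≠ 1` and `θ + θ⁻¹` generates `F` is all of `SL₃(F)`.
-/

namespace Cfsg.Agent.SL3G

open Matrix

variable {F : Type*} [Field F]

/-- Upper unitriangular matrix `U(s, s', c)` as an element of `SL₃(F)`. -/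
def h2_U (s s' c : F) : Matrix.SpecialLinearGroup (Fin 3) F :=
  ⟨!![1, s, c; 0, 1, s'; 0, 0, 1], by simp [Matrix.det_fin_three]⟩

/-- Lower unitriangular matrix `L(d, e, f)` as an element of `SL₃(F)`. -/
def h2_L (d e f : F) : Matrix.SpecialLinearGroup (Fin 3) F :=
  ⟨!![1, 0, 0; d, 1, 0; f, e, 1], by simp [Matrix.det_fin_three]⟩

theorem h2_U_coe (s s' c : F) :
    ((h2_U s s' c : Matrix.SpecialLinearGroup (Fin 3) F) : Matrix (Fin 3) (Fin 3) F) =
      !![1, s, c; 0, 1, s'; 0, 0, 1] := rfl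

theorem h2_L_coe (d e f : F) :
    ((h2_L d e f : Matrix.SpecialLinearGroup (Fin 3) F) : Matrix (Fin 3) (Fin 3) F) =
      !![1, 0, 0; d, 1, 0; f, e, 1] := rfl

theorem h2_U_zero : h2_U (0 : F) 0 0 = 1 := by
  apply Subtype.ext
  rw [h2_U_coe]
  ext i j
  fin_cases i <;> fin_cases j <;> simp

theorem h2_U_mul (s s' c r r' d : F) :
    h2_U s s' c * h2_U r r' d = h2_U (s + r) (s' + r') (c + d + s * r') := by
  apply Subtype.ext
  rw [Matrix.SpecialLinearGroup.coe_mul, h2_U_coe, h2_U_coe, h2_U_coe]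
  ext i j
  fin_cases i <;> fin_cases j <;> simp [Matrix.mul_apply, Fin.sum_univ_three] <;> ring

theorem h2_U_inv (s s' c : F) : (h2_U s s' c)⁻¹ = h2_U (-s) (-s') (s * s' - c) := by
  rw [inv_eq_iff_mul_eq_one, h2_U_mul, ← h2_U_zero]
  congr 1 <;> ring

theorem h2_L_mul (d e f d' e' f' : F) :
    h2_L d e f * h2_L d' e' f' = h2_L (d + d') (e + e') (f + f' + e * d') := by
  apply Subtype.ext
  rw [Matrix.SpecialLinearGroup.coe_mul, h2_L_coe, h2_L_coe, h2_L_coe]
  ext i j
  fin_cases i <;> fin_cases j <;> simp [Matrix.mul_apply, Fin.sum_univ_three]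
  ring

/-- Elementary transvections of `SL₃` in terms of `h2_U`, `h2_L`. -/
theorem h2_transvection_01 (h : (0 : Fin 3) ≠ 1) (s : F) :
    Matrix.SpecialLinearGroup.transvection h s = h2_U s 0 0 := by
  apply Subtype.ext
  change Matrix.transvection 0 1 s = !![1, s, 0; 0, 1, 0; 0, 0, 1]
  ext i j
  fin_cases i <;> fin_cases j <;> simp [Matrix.transvection, Matrix.single]

theorem h2_transvection_02 (h : (0 : Fin 3) ≠ 2) (s : F) :
    Matrix.SpecialLinearGroup.transvection h s = h2_U 0 0 s := by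
  apply Subtype.ext
  change Matrix.transvection 0 2 s = !![1, 0, s; 0, 1, 0; 0, 0, 1]
  ext i j
  fin_cases i <;> fin_cases j <;> simp [Matrix.transvection, Matrix.single]

theorem h2_transvection_12 (h : (1 : Fin 3) ≠ 2) (s : F) :
    Matrix.SpecialLinearGroup.transvection h s = h2_U 0 s 0 := by
  apply Subtype.ext
  change Matrix.transvection 1 2 s = !![1, 0, 0; 0, 1, s; 0, 0, 1]
  ext i j
  fin_cases i <;> fin_cases j <;> simp [Matrix.transvection, Matrix.single]

theorem h2_transvection_10 (h : (1 : Fin 3) ≠ 0) (s : F) :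
    Matrix.SpecialLinearGroup.transvection h s = h2_L s 0 0 := by
  apply Subtype.ext
  change Matrix.transvection 1 0 s = !![1, 0, 0; s, 1, 0; 0, 0, 1]
  ext i j
  fin_cases i <;> fin_cases j <;> simp [Matrix.transvection, Matrix.single]

theorem h2_transvection_20 (h : (2 : Fin 3) ≠ 0) (s : F) :
    Matrix.SpecialLinearGroup.transvection h s = h2_L 0 0 s := by
  apply Subtype.ext
  change Matrix.transvection 2 0 s = !![1, 0, 0; 0, 1, 0; s, 0, 1]
  ext i j
  fin_cases i <;> fin_cases j <;> simp [Matrix.transvection, Matrix.single]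

theorem h2_transvection_21 (h : (2 : Fin 3) ≠ 1) (s : F) :
    Matrix.SpecialLinearGroup.transvection h s = h2_L 0 s 0 := by
  apply Subtype.ext
  change Matrix.transvection 2 1 s = !![1, 0, 0; 0, 1, 0; 0, s, 1]
  ext i j
  fin_cases i <;> fin_cases j <;> simp [Matrix.transvection, Matrix.single]

/-- A subgroup containing all `U(s,0,0)`, `U(0,s,0)`, `U(0,0,s)`, `L(s,0,0)`, `L(0,s,0)`,
`L(0,0,s)` is everything. -/
theorem h2_eq_top_of_elementary (H : Subgroup (Matrix.SpecialLinearGroup (Fin 3) F))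
    (h01 : ∀ s : F, h2_U s 0 0 ∈ H) (h12 : ∀ s : F, h2_U 0 s 0 ∈ H) (h02 : ∀ s : F, h2_U 0 0 s ∈ H)
    (h10 : ∀ s : F, h2_L s 0 0 ∈ H) (h21 : ∀ s : F, h2_L 0 s 0 ∈ H) (h20 : ∀ s : F, h2_L 0 0 s ∈ H) :
    H = ⊤ := by
  rw [eq_top_iff]
  intro M _
  refine Cfsg.Agent.Helper7.Transv.transvection_induction (fun M => M ∈ H) ?_ ?_ M
  · intro i j hij s
    fin_cases i <;> fin_cases j
    · exact absurd rfl hij
    · rw [h2_transvection_01]; exact h01 s
    · rw [h2_transvection_02]; exact h02 s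
    · rw [h2_transvection_10]; exact h10 s
    · exact absurd rfl hij
    · rw [h2_transvection_12]; exact h12 s
    · rw [h2_transvection_20]; exact h20 s
    · rw [h2_transvection_21]; exact h21 s
    · exact absurd rfl hij
  · intro A B hA hB
    exact H.mul_mem hA hB


/-- Scalars stabilising an additive subgroup of `F × F` form a subfield (finite `F`): if `σ`
stabilises `A` and `σ` generates `F`, every scalar stabilises `A`. -/
theorem h2_smul_mem_of_closure [Fintype F] (A : AddSubgroup (F × F)) (σ : F)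
    (hσ : ∀ p ∈ A, σ • p ∈ A) (hcl : Subfield.closure ({σ} : Set F) = ⊤) (k : F) :
    ∀ p ∈ A, k • p ∈ A := by
  have hk : k ∈ Subfield.closure ({σ} : Set F) := by rw [hcl]; trivial
  have hpow : ∀ (x : F), (∀ p ∈ A, x • p ∈ A) → ∀ m : ℕ, ∀ p ∈ A, (x ^ m) • p ∈ A := by
    intro x hx m
    induction m with
    | zero => intro p hp; simpa using hp
    | succ m ih =>
      intro p hp
      rw [pow_succ, mul_smul]
      exact ih _ (hx p hp)
  induction hk using Subfield.closure_induction with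
  | mem x hx =>
    rw [Set.mem_singleton_iff] at hx
    subst hx
    exact hσ
  | one => intro p hp; simpa using hp
  | add x y _ _ hx hy =>
    intro p hp
    rw [add_smul]
    exact A.add_mem (hx p hp) (hy p hp)
  | neg x _ hx =>
    intro p hp
    rw [neg_smul]
    exact A.neg_mem (hx p hp)
  | inv x _ hx =>
    intro p hp
    by_cases h0 : x = 0
    · subst h0
      simp
    · have h1 : x ^ (Fintype.card F - 1) = 1 := FiniteField.pow_card_sub_one_eq_one x h0
      have h2 : 2 ≤ Fintype.card F := Fintype.one_lt_card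
      have h3 : x⁻¹ = x ^ (Fintype.card F - 2) := by
        have : x * x ^ (Fintype.card F - 2) = 1 := by
          rw [← pow_succ']
          have : Fintype.card F - 2 + 1 = Fintype.card F - 1 := by omega
          rw [this, h1]
        exact inv_eq_of_mul_eq_one_right this
      rw [h3]
      exact hpow x hx _ p hp
  | mul x y _ _ hx hy =>
    intro p hp
    rw [mul_smul]
    exact hx _ (hy p hp)


/-- **Piece GA ("Plan A") of S2278.**  A subgroup of `SL₃(F)`, `F` a finite field, which contains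
`U(a,b,c)` with `a b ≠ 0` and the monomial matrix `antidiag(x,y,z)` is all of `SL₃(F)`, provided
`θ = x z / y²` satisfies `θ² ≠ 1` and `θ + θ⁻¹` generates the field `F`. -/
theorem h2_planA [Fintype F] (H : Subgroup (Matrix.SpecialLinearGroup (Fin 3) F))
    (a b c x y z θ : F) (ha : a ≠ 0) (hb : b ≠ 0)
    (hu : ∃ g ∈ H, (g : Matrix (Fin 3) (Fin 3) F) = !![1, a, c; 0, 1, b; 0, 0, 1])
    (hn : ∃ g ∈ H, (g : Matrix (Fin 3) (Fin 3) F) = !![0, 0, x; 0, y, 0; z, 0, 0])
    (hθ : θ * y ^ 2 = x * z) (hθ2 : θ ^ 2 ≠ 1)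
    (hcl : Subfield.closure ({θ + θ⁻¹} : Set F) = ⊤) : H = ⊤ := by
  obtain ⟨u, huH, hucoe⟩ := hu
  obtain ⟨n, hnH, hncoe⟩ := hn
  have hu' : u = h2_U a b c := Subtype.ext hucoe
  -- `det n = 1`
  have hdet : x * y * z = -1 := by
    have h := n.2
    rw [hncoe, Matrix.det_fin_three] at h
    simp at h
    linear_combination -h
  have hx : x ≠ 0 := by rintro rfl; simp at hdet
  have hy : y ≠ 0 := by rintro rfl; simp at hdet
  have hz : z ≠ 0 := by rintro rfl; simp at hdet
  have hθ0 : θ ≠ 0 := by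
    rintro rfl
    rw [zero_mul] at hθ
    exact mul_ne_zero hx hz hθ.symm
  -- conjugation by `t = n * n`
  have hconj : ∀ s s' d : F, (n * n) * h2_U s s' d = h2_U (θ * s) (θ⁻¹ * s') d * (n * n) := by
    intro s s' d
    apply Subtype.ext
    simp only [Matrix.SpecialLinearGroup.coe_mul, hncoe, h2_U_coe]
    ext i j
    fin_cases i <;> fin_cases j <;> simp [Matrix.mul_apply, Fin.sum_univ_three]
    all_goals first
      | ring1
      | linear_combination (-s) * hθ
      | (field_simp; linear_combination (s') * hθ)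
  have ht : n * n ∈ H := H.mul_mem hnH hnH
  have hconj1 : ∀ s s' d : F, h2_U s s' d ∈ H → h2_U (θ * s) (θ⁻¹ * s') d ∈ H := by
    intro s s' d h
    have h1 : h2_U (θ * s) (θ⁻¹ * s') d = (n * n) * h2_U s s' d * (n * n)⁻¹ := by
      rw [hconj, mul_inv_cancel_right]
    rw [h1]
    exact H.mul_mem (H.mul_mem ht h) (H.inv_mem ht)
  have hconj2 : ∀ s s' d : F, h2_U s s' d ∈ H → h2_U (θ⁻¹ * s) (θ * s') d ∈ H := by
    intro s s' d h
    have h0 := hconj (θ⁻¹ * s) (θ * s') d
    rw [← mul_assoc θ θ⁻¹ s, ← mul_assoc θ⁻¹ θ s', mul_inv_cancel₀ hθ0, inv_mul_cancel₀ hθ0,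
      one_mul, one_mul] at h0
    have h1 : h2_U (θ⁻¹ * s) (θ * s') d = (n * n)⁻¹ * h2_U s s' d * (n * n) := by
      rw [mul_assoc, ← h0, inv_mul_cancel_left]
    rw [h1]
    exact H.mul_mem (H.mul_mem (H.inv_mem ht) h) ht
  -- the additive group `A`
  let A : AddSubgroup (F × F) :=
    { carrier := {p | ∃ d, h2_U p.1 p.2 d ∈ H}
      zero_mem' := ⟨0, by
        change h2_U (0 : F) 0 0 ∈ H
        rw [h2_U_zero]; exact H.one_mem⟩
      add_mem' := by
        rintro p q ⟨d, hd⟩ ⟨e, he⟩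
        have h := H.mul_mem hd he
        rw [h2_U_mul] at h
        exact ⟨_, h⟩
      neg_mem' := by
        rintro p ⟨d, hd⟩
        have h := H.inv_mem hd
        rw [h2_U_inv] at h
        exact ⟨_, h⟩ }
  have hAmem : ∀ p : F × F, p ∈ A ↔ ∃ d, h2_U p.1 p.2 d ∈ H := fun p => Iff.rfl
  have hσ : ∀ p ∈ A, (θ + θ⁻¹) • p ∈ A := by
    intro p hp
    obtain ⟨d, hd⟩ := (hAmem p).1 hp
    have h1 : ((θ * p.1, θ⁻¹ * p.2) : F × F) ∈ A := (hAmem _).2 ⟨d, hconj1 _ _ _ hd⟩
    have h2 : ((θ⁻¹ * p.1, θ * p.2) : F × F) ∈ A := (hAmem _).2 ⟨d, hconj2 _ _ _ hd⟩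
    have h3 : (θ + θ⁻¹) • p = (θ * p.1, θ⁻¹ * p.2) + (θ⁻¹ * p.1, θ * p.2) := by
      ext
      · simp only [Prod.smul_fst, Prod.fst_add, smul_eq_mul]; ring
      · simp only [Prod.smul_snd, Prod.snd_add, smul_eq_mul]; ring
    rw [h3]
    exact A.add_mem h1 h2
  have hall : ∀ (k : F), ∀ p ∈ A, k • p ∈ A := fun k => h2_smul_mem_of_closure A _ hσ hcl k
  have hp0 : ((a, b) : F × F) ∈ A := (hAmem _).2 ⟨c, by rw [← hu']; exact huH⟩
  have hp1 : ((θ * a, θ⁻¹ * b) : F × F) ∈ A := by
    obtain ⟨d, hd⟩ := (hAmem _).1 hp0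
    exact (hAmem _).2 ⟨d, hconj1 _ _ _ hd⟩
  have hD : θ - θ⁻¹ ≠ 0 := by
    intro h
    apply hθ2
    have : θ = θ⁻¹ := sub_eq_zero.1 h
    calc θ ^ 2 = θ * θ := sq θ
      _ = θ * θ⁻¹ := by rw [← this]
      _ = 1 := mul_inv_cancel₀ hθ0
  have hA : ∀ s s' : F, ∃ d, h2_U s s' d ∈ H := by
    intro s s'
    have h := A.add_mem (hall (s / a - θ * ((s / a - s' / b) / (θ - θ⁻¹))) _ hp0)
      (hall ((s / a - s' / b) / (θ - θ⁻¹)) _ hp1)
    have h3 : (s / a - θ * ((s / a - s' / b) / (θ - θ⁻¹))) • ((a, b) : F × F) +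
        ((s / a - s' / b) / (θ - θ⁻¹)) • ((θ * a, θ⁻¹ * b) : F × F) = (s, s') := by
      ext
      · simp only [Prod.smul_fst, Prod.fst_add, smul_eq_mul]
        field_simp
        ring
      · simp only [Prod.smul_snd, Prod.snd_add, smul_eq_mul]
        have e1 : (s / a - θ * ((s / a - s' / b) / (θ - θ⁻¹))) * b +
            (s / a - s' / b) / (θ - θ⁻¹) * (θ⁻¹ * b) =
            b * (s / a - (θ - θ⁻¹) * ((s / a - s' / b) / (θ - θ⁻¹))) := by ring
        rw [e1, mul_div_cancel₀ _ hD]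
        field_simp
        ring
    rw [h3] at h
    exact (hAmem _).1 h
  -- the upper root subgroups
  have h02 : ∀ s : F, h2_U 0 0 s ∈ H := by
    intro s
    obtain ⟨c1, h1⟩ := hA s 0
    obtain ⟨c2, h2⟩ := hA 0 1
    have h := H.mul_mem (H.mul_mem h1 h2) (H.inv_mem (H.mul_mem h2 h1))
    rw [h2_U_mul, h2_U_mul, h2_U_inv, h2_U_mul] at h
    convert h using 2 <;> ring
  have h01 : ∀ s : F, h2_U s 0 0 ∈ H := by
    intro s
    obtain ⟨c1, h1⟩ := hA s 0
    have h := H.mul_mem h1 (h02 (-c1))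
    rw [h2_U_mul] at h
    convert h using 2 <;> ring
  have h12 : ∀ s : F, h2_U 0 s 0 ∈ H := by
    intro s
    obtain ⟨c1, h1⟩ := hA 0 s
    have h := H.mul_mem h1 (h02 (-c1))
    rw [h2_U_mul] at h
    convert h using 2 <;> ring
  -- conjugation by `n` gives the lower root subgroups
  have hconjn : ∀ s s' d : F, n * h2_U s s' d = h2_L (y * s' / x) (z * s / y) (z * d / x) * n := by
    intro s s' d
    apply Subtype.ext
    simp only [Matrix.SpecialLinearGroup.coe_mul, hncoe, h2_U_coe, h2_L_coe]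
    ext i j
    fin_cases i <;> fin_cases j <;> simp [Matrix.mul_apply, Fin.sum_univ_three] <;> field_simp
  have hL : ∀ s s' d : F, h2_U s s' d ∈ H → h2_L (y * s' / x) (z * s / y) (z * d / x) ∈ H := by
    intro s s' d h
    have h1 : h2_L (y * s' / x) (z * s / y) (z * d / x) = n * h2_U s s' d * n⁻¹ := by
      rw [hconjn, mul_inv_cancel_right]
    rw [h1]
    exact H.mul_mem (H.mul_mem hnH h) (H.inv_mem hnH)
  have h10 : ∀ e : F, h2_L e 0 0 ∈ H := by
    intro e
    have h := hL 0 (e * x / y) 0 (h12 _)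
    convert h using 2
    · field_simp
    · simp
    · simp
  have h21 : ∀ e : F, h2_L 0 e 0 ∈ H := by
    intro e
    have h := hL (e * y / z) 0 0 (h01 _)
    convert h using 2
    · simp
    · field_simp
    · simp
  have h20 : ∀ e : F, h2_L 0 0 e ∈ H := by
    intro e
    have h := hL 0 0 (e * x / z) (h02 _)
    convert h using 2
    · simp
    · simp
    · field_simp
  exact h2_eq_top_of_elementary H h01 h12 h02 h10 h21 h20

end Cfsg.Agent.SL3G
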