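import Mathlib
import Cfsg.Agent.SL3G.H2_GA

set_option autoImplicit false

/-!
# S2278 swarm, piece FA (the odd family), helper4

For `η ≠ 0, -1` in a field `F` put `u = U(1, (η+1)³ η⁻¹, η² + 3η)` (upper unitriangular, regular
unipotent), `n = antidiag(η, -η⁻¹, 1)` and
`g = !![δ, δ, η(η+3)δ; -(η+1), -1, 1-η; δ, 0, 0]`, `δ = (η+1)⁻¹` (`det g = 1`).  Then
`u g u = n g`, i.e. `g u g⁻¹ = u⁻¹ n`, so `n = u · g u g⁻¹` lies in the subgroup generated by the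
two conjugate regular unipotents `u` and `g u g⁻¹`.  With helper2's Plan A lemma (`h2_planA`,
`x = η`, `y = -η⁻¹`, `z = 1`, `θ = η³`) this subgroup is `SL₃(F)` as soon as `θ² ≠ 1` and
`θ + θ⁻¹` generates `F`.
-/

namespace Cfsg.Agent.SL3G

open Matrix

variable {F : Type*} [Field F]

/-- the regular unipotent `u = U(1, (η+1)³ η⁻¹, η² + 3η)`. -/
def h4_u (η : F) : Matrix.SpecialLinearGroup (Fin 3) F :=
  ⟨!![1, 1, η ^ 2 + 3 * η; 0, 1, (η + 1) ^ 3 * η⁻¹; 0, 0, 1], by simp [Matrix.det_fin_three]⟩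

/-- the monomial matrix `n = antidiag(η, -η⁻¹, 1)`. -/
def h4_n (η : F) (hη : η ≠ 0) : Matrix.SpecialLinearGroup (Fin 3) F :=
  ⟨!![0, 0, η; 0, -η⁻¹, 0; 1, 0, 0], by
    simp [Matrix.det_fin_three]
    field_simp⟩

/-- the conjugating element `g`. -/
def h4_g (η : F) (hη1 : η + 1 ≠ 0) : Matrix.SpecialLinearGroup (Fin 3) F :=
  ⟨!![(η + 1)⁻¹, (η + 1)⁻¹, η * (η + 3) * (η + 1)⁻¹; -(η + 1), -1, 1 - η; (η + 1)⁻¹, 0, 0], by
    simp [Matrix.det_fin_three]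
    field_simp
    ring⟩

theorem h4_u_coe (η : F) :
    ((h4_u η : Matrix.SpecialLinearGroup (Fin 3) F) : Matrix (Fin 3) (Fin 3) F) =
      !![1, 1, η ^ 2 + 3 * η; 0, 1, (η + 1) ^ 3 * η⁻¹; 0, 0, 1] := rfl

theorem h4_n_coe (η : F) (hη : η ≠ 0) :
    ((h4_n η hη : Matrix.SpecialLinearGroup (Fin 3) F) : Matrix (Fin 3) (Fin 3) F) =
      !![0, 0, η; 0, -η⁻¹, 0; 1, 0, 0] := rfl

/-- the key matrix identity `u g u = n g`, on matrices. -/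
theorem h4_ugu_mat (η : F) (hη : η ≠ 0) (hη1 : η + 1 ≠ 0) :
    (!![1, 1, η ^ 2 + 3 * η; 0, 1, (η + 1) ^ 3 * η⁻¹; 0, 0, 1] : Matrix (Fin 3) (Fin 3) F) *
      !![(η + 1)⁻¹, (η + 1)⁻¹, η * (η + 3) * (η + 1)⁻¹; -(η + 1), -1, 1 - η; (η + 1)⁻¹, 0, 0] *
      !![1, 1, η ^ 2 + 3 * η; 0, 1, (η + 1) ^ 3 * η⁻¹; 0, 0, 1] =
    !![0, 0, η; 0, -η⁻¹, 0; 1, 0, 0] *
      !![(η + 1)⁻¹, (η + 1)⁻¹, η * (η + 3) * (η + 1)⁻¹; -(η + 1), -1, 1 - η; (η + 1)⁻¹, 0, 0] := by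
  ext i j
  fin_cases i <;> fin_cases j
  all_goals simp [Matrix.mul_apply, Fin.sum_univ_three]
  all_goals (try field_simp)
  all_goals (try ring)

/-- the key identity `u g u = n g` in `SL₃(F)`. -/
theorem h4_ugu (η : F) (hη : η ≠ 0) (hη1 : η + 1 ≠ 0) :
    h4_u η * h4_g η hη1 * h4_u η = h4_n η hη * h4_g η hη1 := by
  apply Subtype.ext
  exact h4_ugu_mat η hη hη1

/-- `u · (g u g⁻¹) = n`. -/
theorem h4_mul_conj (η : F) (hη : η ≠ 0) (hη1 : η + 1 ≠ 0) :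
    h4_u η * (h4_g η hη1 * h4_u η * (h4_g η hη1)⁻¹) = h4_n η hη := by
  have h := h4_ugu η hη hη1
  calc h4_u η * (h4_g η hη1 * h4_u η * (h4_g η hη1)⁻¹)
      = (h4_u η * h4_g η hη1 * h4_u η) * (h4_g η hη1)⁻¹ := by group
    _ = h4_n η hη := by rw [h]; group

/-- **Piece FA of S2278.** -/
theorem h4_FA (η : F) (hη : η ≠ 0) (hη1 : η + 1 ≠ 0) :
    ∃ u g : Matrix.SpecialLinearGroup (Fin 3) F,
      (u : Matrix (Fin 3) (Fin 3) F) =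
        !![1, 1, η ^ 2 + 3 * η; 0, 1, (η + 1) ^ 3 * η⁻¹; 0, 0, 1] ∧
      ((u * (g * u * g⁻¹) : Matrix.SpecialLinearGroup (Fin 3) F) : Matrix (Fin 3) (Fin 3) F) =
        !![0, 0, η; 0, -η⁻¹, 0; 1, 0, 0] :=
  ⟨h4_u η, h4_g η hη1, rfl, by rw [h4_mul_conj η hη hη1]; rfl⟩

/-- `u - 1` is nilpotent. -/
theorem h4_u_nilpotent (η : F) :
    IsNilpotent (((h4_u η : Matrix.SpecialLinearGroup (Fin 3) F) : Matrix (Fin 3) (Fin 3) F) - 1) := by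
  refine ⟨3, ?_⟩
  rw [h4_u_coe]
  ext i j
  fin_cases i <;> fin_cases j <;>
    simp [pow_succ, Matrix.mul_apply, Fin.sum_univ_three, Matrix.one_apply]

/-- `(u - 1)² ≠ 0`: `u` is a regular unipotent. -/
theorem h4_u_sq_ne (η : F) (hη : η ≠ 0) (hη1 : η + 1 ≠ 0) :
    (((h4_u η : Matrix.SpecialLinearGroup (Fin 3) F) : Matrix (Fin 3) (Fin 3) F) - 1) ^ (3 - 1) ≠ 0 := by
  intro h
  have h02 := congrFun (congrFun h 0) 2
  rw [h4_u_coe] at h02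
  simp [pow_succ, Matrix.mul_apply, Fin.sum_univ_three, Matrix.one_apply] at h02
  rcases h02 with h' | h'
  · exact hη1 h'
  · exact hη h'

/-- **FA assembled with Plan A:** for `η ≠ 0, -1` with `(η³)² ≠ 1` and `η³ + η⁻³` generating the
finite field `F`, the conjugate regular unipotents `u` and `g u g⁻¹` generate `SL₃(F)`. -/
theorem h4_FA_top [Fintype F] (η : F) (hη : η ≠ 0) (hη1 : η + 1 ≠ 0) (hθ2 : (η ^ 3) ^ 2 ≠ 1)
    (hcl : Subfield.closure ({η ^ 3 + (η ^ 3)⁻¹} : Set F) = ⊤) :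
    ∃ u g : Matrix.SpecialLinearGroup (Fin 3) F,
      IsNilpotent ((u : Matrix (Fin 3) (Fin 3) F) - 1) ∧
      ((u : Matrix (Fin 3) (Fin 3) F) - 1) ^ (3 - 1) ≠ 0 ∧
      Subgroup.closure ({u, g * u * g⁻¹} : Set (Matrix.SpecialLinearGroup (Fin 3) F)) = ⊤ := by
  refine ⟨h4_u η, h4_g η hη1, h4_u_nilpotent η, h4_u_sq_ne η hη hη1, ?_⟩
  set H := Subgroup.closure
    ({h4_u η, h4_g η hη1 * h4_u η * (h4_g η hη1)⁻¹} : Set (Matrix.SpecialLinearGroup (Fin 3) F))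
    with hH
  have hu : h4_u η ∈ H := Subgroup.subset_closure (by simp)
  have hv : h4_g η hη1 * h4_u η * (h4_g η hη1)⁻¹ ∈ H := Subgroup.subset_closure (by simp)
  have hn : h4_n η hη ∈ H := by
    rw [← h4_mul_conj η hη hη1]
    exact H.mul_mem hu hv
  have hb : (η + 1) ^ 3 * η⁻¹ ≠ 0 := mul_ne_zero (pow_ne_zero 3 hη1) (inv_ne_zero hη)
  refine h2_planA H 1 ((η + 1) ^ 3 * η⁻¹) (η ^ 2 + 3 * η) η (-η⁻¹) 1 (η ^ 3) one_ne_zero hb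
    ⟨h4_u η, hu, rfl⟩ ⟨h4_n η hη, hn, rfl⟩ ?_ hθ2 hcl
  field_simp

end Cfsg.Agent.SL3G
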