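import Mathlib
import Cfsg.Agent.SL3G.H1_NT
import Cfsg.Agent.SL3G.H4_FA

set_option autoImplicit false

/-!
# S2278 swarm: the odd case `q ∉ {3, 7}` (= FA + GA + NT), helper4
-/

namespace Cfsg.Agent.SL3G

variable {F : Type*} [Field F] [Fintype F]

/-- For a finite field `F` of odd characteristic with `|F| ≠ 3, 7`, `SL₃(F)` is generated by two
conjugate regular unipotent elements. -/
theorem h4_odd (h2 : (2 : F) ≠ 0) (h3 : Fintype.card F ≠ 3) (h7 : Fintype.card F ≠ 7) :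
    ∃ u g : Matrix.SpecialLinearGroup (Fin 3) F,
      IsNilpotent ((u : Matrix (Fin 3) (Fin 3) F) - 1) ∧
      ((u : Matrix (Fin 3) (Fin 3) F) - 1) ^ (3 - 1) ≠ 0 ∧
      Subgroup.closure ({u, g * u * g⁻¹} : Set (Matrix.SpecialLinearGroup (Fin 3) F)) = ⊤ := by
  obtain ⟨η, h0, h1, hθ2, hcl⟩ := h1_nt_odd h2 h3 h7
  exact h4_FA_top η h0 h1 hθ2 hcl

end Cfsg.Agent.SL3G
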