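import Cfsg.Agent.SL3G.H8_Q37

/-!
# S2278 swarm (helper8): `U(a,b,c)` with `a b ≠ 0` is regular unipotent
-/

set_option autoImplicit false

namespace Cfsg.Agent.SL3G

open Matrix

/-- an upper unitriangular `3 × 3` matrix `U(a,b,c)` with `a * b ≠ 0` is regular unipotent. -/
theorem h8_regular_of_upper {R : Type*} [CommRing R] (a b c : R) (hab : a * b ≠ 0)
    (M : Matrix (Fin 3) (Fin 3) R) (hM : M = !![1, a, c; 0, 1, b; 0, 0, 1]) :
    IsNilpotent (M - 1) ∧ (M - 1) ^ (3 - 1) ≠ 0 := by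
  subst hM
  have h1 : (!![1, a, c; 0, 1, b; 0, 0, 1] : Matrix (Fin 3) (Fin 3) R) - 1 =
      !![0, a, c; 0, 0, b; 0, 0, 0] := by
    ext i j
    fin_cases i <;> fin_cases j <;> simp
  have h2 : (!![0, a, c; 0, 0, b; 0, 0, 0] : Matrix (Fin 3) (Fin 3) R) ^ 2 =
      !![0, 0, a * b; 0, 0, 0; 0, 0, 0] := by
    rw [pow_two]
    ext i j
    fin_cases i <;> fin_cases j <;> simp [Matrix.mul_apply, Fin.sum_univ_three]
  have h3 : (!![0, a, c; 0, 0, b; 0, 0, 0] : Matrix (Fin 3) (Fin 3) R) ^ 3 = 0 := by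
    rw [pow_succ, h2]
    ext i j
    fin_cases i <;> fin_cases j <;> simp [Matrix.mul_apply, Fin.sum_univ_three]
  rw [h1]
  refine ⟨⟨3, h3⟩, ?_⟩
  show (!![0, a, c; 0, 0, b; 0, 0, 0] : Matrix (Fin 3) (Fin 3) R) ^ 2 ≠ 0
  rw [h2]
  intro h0
  apply hab
  have := congrFun (congrFun h0 0) 2
  simpa using this

/-- the element `u = U(1,1,0)` of the pieces Q3, Q7 is regular unipotent. -/
theorem h8_u_regular (R : Type*) [CommRing R] [Nontrivial R] :
    IsNilpotent (((h8_u R : SpecialLinearGroup (Fin 3) R) : Matrix (Fin 3) (Fin 3) R) - 1) ∧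
      (((h8_u R : SpecialLinearGroup (Fin 3) R) : Matrix (Fin 3) (Fin 3) R) - 1) ^ (3 - 1) ≠ 0 :=
  h8_regular_of_upper 1 1 0 (by simp) _ rfl

end Cfsg.Agent.SL3G
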