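import Mathlib

/-!
# S2278 swarm, pieces Q3 and Q7 (helper8)

For a field `F` with 3 or 7 elements, `u = !![1,1,0;0,1,1;0,0,1]` and its conjugate
`v = g u g⁻¹ = !![1,0,0;1,1,0;0,1,1]` (`g` = minus the antidiagonal permutation matrix)
generate a subgroup containing the four elements required by the general-position lemma:
`x₁₃(s₁)`, `x₃₁(s₂)`, an element `1 + w e₂ᵀ` and an element `1 + e₂ χ`.

The words are evaluated over `ZMod p` by `decide` and transported to `F` along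
`ZMod.castHom`.
-/

set_option autoImplicit false
set_option linter.unnecessarySeqFocus false

namespace Cfsg.Agent.SL3G

open Matrix

/-- a field of prime cardinality has no proper subfield. -/
theorem h8_subfield_eq_top_of_card_prime {F : Type*} [Field F] [Fintype F]
    (hp : (Fintype.card F).Prime) (K : Subfield F) : K = ⊤ := by
  have hdvd : Nat.card K.toAddSubgroup ∣ Nat.card F := K.toAddSubgroup.card_addSubgroup_dvd_card
  rw [Nat.card_eq_fintype_card (α := F)] at hdvd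
  have h1 : Nat.card K.toAddSubgroup ≠ 1 := by
    intro h
    have hsub : Subsingleton K.toAddSubgroup := (Nat.card_eq_one_iff_unique.mp h).1
    have h01 : (⟨0, K.zero_mem⟩ : K.toAddSubgroup) = ⟨1, K.one_mem⟩ := Subsingleton.elim _ _
    have : (0 : F) = 1 := congrArg Subtype.val h01
    exact zero_ne_one this
  have hcard : Nat.card K.toAddSubgroup = Fintype.card F :=
    ((Nat.dvd_prime hp).mp hdvd).resolve_left h1
  have htop : K.toAddSubgroup = ⊤ := by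
    apply AddSubgroup.eq_top_of_card_eq
    rw [hcard, Nat.card_eq_fintype_card]
  rw [eq_top_iff]
  intro x _
  have : x ∈ K.toAddSubgroup := by rw [htop]; trivial
  exact this

/-- the characteristic of a field of prime cardinality `p` is `p`. -/
theorem h8_charP_of_card_prime {F : Type*} [Field F] [Fintype F] {p : ℕ}
    (hp : p.Prime) (hF : Fintype.card F = p) : CharP F p := by
  obtain ⟨n, hq, hcard⟩ := FiniteField.card F (ringChar F)
  have hdvd : ringChar F ∣ p := by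
    rw [← hF, hcard]
    exact dvd_pow_self _ n.ne_zero
  have heq : ringChar F = p := ((Nat.dvd_prime hp).mp hdvd).resolve_left hq.one_lt.ne'
  rw [← heq]
  exact ringChar.charP F

/-! ### the generators -/

/-- `U(1,1,0)`. -/
def h8_u (R : Type*) [CommRing R] : SpecialLinearGroup (Fin 3) R :=
  ⟨!![1, 1, 0; 0, 1, 1; 0, 0, 1], by simp [Matrix.det_fin_three]⟩

/-- `L(1,1,0)`. -/
def h8_v (R : Type*) [CommRing R] : SpecialLinearGroup (Fin 3) R :=
  ⟨!![1, 0, 0; 1, 1, 0; 0, 1, 1], by simp [Matrix.det_fin_three]⟩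

/-- the inverse of `U(1,1,0)`. -/
def h8_ui (R : Type*) [CommRing R] : SpecialLinearGroup (Fin 3) R :=
  ⟨!![1, -1, 1; 0, 1, -1; 0, 0, 1], by simp [Matrix.det_fin_three]⟩

/-- the inverse of `L(1,1,0)`. -/
def h8_vi (R : Type*) [CommRing R] : SpecialLinearGroup (Fin 3) R :=
  ⟨!![1, 0, 0; -1, 1, 0; 1, -1, 1], by simp [Matrix.det_fin_three]⟩

/-- minus the antidiagonal permutation matrix. -/
def h8_g (R : Type*) [CommRing R] : SpecialLinearGroup (Fin 3) R :=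
  ⟨!![0, 0, -1; 0, -1, 0; -1, 0, 0], by simp [Matrix.det_fin_three]⟩

theorem h8_ui_eq (R : Type*) [CommRing R] : h8_ui R = (h8_u R)⁻¹ := by
  apply eq_inv_of_mul_eq_one_left
  apply Subtype.ext
  show (h8_ui R).1 * (h8_u R).1 = 1
  simp [h8_ui, h8_u, Matrix.one_fin_three]

theorem h8_vi_eq (R : Type*) [CommRing R] : h8_vi R = (h8_v R)⁻¹ := by
  apply eq_inv_of_mul_eq_one_left
  apply Subtype.ext
  show (h8_vi R).1 * (h8_v R).1 = 1
  simp [h8_vi, h8_v, Matrix.one_fin_three]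

theorem h8_conj (R : Type*) [CommRing R] : h8_g R * h8_u R * (h8_g R)⁻¹ = h8_v R := by
  rw [mul_inv_eq_iff_eq_mul]
  apply Subtype.ext
  show (h8_g R).1 * (h8_u R).1 = (h8_v R).1 * (h8_g R).1
  simp [h8_g, h8_u, h8_v]

/-! ### transport along a ring homomorphism -/

section transport

variable {R S : Type*} [CommRing R] [CommRing S] (f : R →+* S)

theorem h8_map_u : SpecialLinearGroup.map f (h8_u R) = h8_u S := by
  apply Subtype.ext
  rw [SpecialLinearGroup.map_apply_coe]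
  ext i j
  fin_cases i <;> fin_cases j <;> simp [h8_u]

theorem h8_map_v : SpecialLinearGroup.map f (h8_v R) = h8_v S := by
  apply Subtype.ext
  rw [SpecialLinearGroup.map_apply_coe]
  ext i j
  fin_cases i <;> fin_cases j <;> simp [h8_v]

/-- membership in the subgroup generated by `u, v` is transported, matrixwise. -/
theorem h8_transport {M : Matrix (Fin 3) (Fin 3) R}
    (h : ∃ x ∈ Subgroup.closure ({h8_u R, h8_v R} : Set (SpecialLinearGroup (Fin 3) R)),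
      (x : Matrix (Fin 3) (Fin 3) R) = M) :
    ∃ y ∈ Subgroup.closure ({h8_u S, h8_v S} : Set (SpecialLinearGroup (Fin 3) S)),
      (y : Matrix (Fin 3) (Fin 3) S) = M.map f := by
  obtain ⟨x, hx, hxM⟩ := h
  refine ⟨SpecialLinearGroup.map f x, ?_, ?_⟩
  · have h1 : SpecialLinearGroup.map f x ∈
        (Subgroup.closure ({h8_u R, h8_v R} : Set (SpecialLinearGroup (Fin 3) R))).map
          (SpecialLinearGroup.map f) := Subgroup.mem_map_of_mem _ hx
    rw [MonoidHom.map_closure, Set.image_pair, h8_map_u, h8_map_v] at h1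
    exact h1
  · rw [SpecialLinearGroup.map_apply_coe, hxM]
    rfl

end transport

/-- a product of letters `u, v, u⁻¹, v⁻¹` lies in the subgroup generated by `u` and `v`. -/
theorem h8_word_mem {G : Type*} [Group G] (u v ui vi : G) (hui : ui = u⁻¹) (hvi : vi = v⁻¹)
    (l : List (Fin 4)) :
    (l.map ![u, v, ui, vi]).prod ∈ Subgroup.closure ({u, v} : Set G) := by
  apply Subgroup.list_prod_mem
  intro x hx
  have hu : u ∈ Subgroup.closure ({u, v} : Set G) := Subgroup.subset_closure (by simp)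
  have hv : v ∈ Subgroup.closure ({u, v} : Set G) := Subgroup.subset_closure (by simp)
  obtain ⟨i, _, rfl⟩ := List.mem_map.mp hx
  fin_cases i
  · exact hu
  · exact hv
  · subst hui; exact inv_mem hu
  · subst hvi; exact inv_mem hv

/-! ### the words (found by helper6's breadth-first search) -/

theorem h8_w7_a : ∃ x ∈ Subgroup.closure
    ({h8_u (ZMod 7), h8_v (ZMod 7)} : Set (SpecialLinearGroup (Fin 3) (ZMod 7))),
    (x : Matrix (Fin 3) (Fin 3) (ZMod 7)) = !![1, 0, 3; 0, 1, 0; 0, 0, 1] := by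
  refine ⟨(([0, 0, 1, 2, 1, 0, 3, 3, 3, 0, 1, 2, 1] : List (Fin 4)).map
      ![h8_u _, h8_v _, h8_ui _, h8_vi _]).prod, ?_, ?_⟩
  · exact h8_word_mem _ _ _ _ (h8_ui_eq _) (h8_vi_eq _) _
  · decide +kernel

theorem h8_w7_b : ∃ x ∈ Subgroup.closure
    ({h8_u (ZMod 7), h8_v (ZMod 7)} : Set (SpecialLinearGroup (Fin 3) (ZMod 7))),
    (x : Matrix (Fin 3) (Fin 3) (ZMod 7)) = !![1, 0, 0; 0, 1, 0; 3, 0, 1] := by
  refine ⟨(([0, 3, 0, 1, 2, 2, 2, 1, 0, 3, 0, 1, 1] : List (Fin 4)).map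
      ![h8_u _, h8_v _, h8_ui _, h8_vi _]).prod, ?_, ?_⟩
  · exact h8_word_mem _ _ _ _ (h8_ui_eq _) (h8_vi_eq _) _
  · decide +kernel

theorem h8_w7_c : ∃ x ∈ Subgroup.closure
    ({h8_u (ZMod 7), h8_v (ZMod 7)} : Set (SpecialLinearGroup (Fin 3) (ZMod 7))),
    (x : Matrix (Fin 3) (Fin 3) (ZMod 7)) = !![1, 2, 0; 0, 1, 0; 0, 6, 1] := by
  refine ⟨(([2, 1, 2, 2, 1, 2, 3, 0, 1, 2, 1, 0] : List (Fin 4)).map
      ![h8_u _, h8_v _, h8_ui _, h8_vi _]).prod, ?_, ?_⟩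
  · exact h8_word_mem _ _ _ _ (h8_ui_eq _) (h8_vi_eq _) _
  · decide +kernel

theorem h8_w7_d : ∃ x ∈ Subgroup.closure
    ({h8_u (ZMod 7), h8_v (ZMod 7)} : Set (SpecialLinearGroup (Fin 3) (ZMod 7))),
    (x : Matrix (Fin 3) (Fin 3) (ZMod 7)) = !![1, 0, 0; 3, 1, 2; 0, 0, 1] := by
  refine ⟨(([0, 0, 0, 1, 1, 2, 2, 3, 3, 2, 1, 2] : List (Fin 4)).map
      ![h8_u _, h8_v _, h8_ui _, h8_vi _]).prod, ?_, ?_⟩
  · exact h8_word_mem _ _ _ _ (h8_ui_eq _) (h8_vi_eq _) _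
  · decide +kernel

theorem h8_w3_a : ∃ x ∈ Subgroup.closure
    ({h8_u (ZMod 3), h8_v (ZMod 3)} : Set (SpecialLinearGroup (Fin 3) (ZMod 3))),
    (x : Matrix (Fin 3) (Fin 3) (ZMod 3)) = !![1, 0, 1; 0, 1, 0; 0, 0, 1] := by
  refine ⟨(([2, 3, 2, 3, 2, 1, 0, 1, 0, 1, 2, 3, 2, 3] : List (Fin 4)).map
      ![h8_u _, h8_v _, h8_ui _, h8_vi _]).prod, ?_, ?_⟩
  · exact h8_word_mem _ _ _ _ (h8_ui_eq _) (h8_vi_eq _) _
  · decide +kernel

theorem h8_w3_b : ∃ x ∈ Subgroup.closure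
    ({h8_u (ZMod 3), h8_v (ZMod 3)} : Set (SpecialLinearGroup (Fin 3) (ZMod 3))),
    (x : Matrix (Fin 3) (Fin 3) (ZMod 3)) = !![1, 0, 0; 0, 1, 0; 1, 0, 1] := by
  refine ⟨(([2, 3, 2, 3, 0, 1, 0, 1, 0, 3, 2, 3, 2, 3] : List (Fin 4)).map
      ![h8_u _, h8_v _, h8_ui _, h8_vi _]).prod, ?_, ?_⟩
  · exact h8_word_mem _ _ _ _ (h8_ui_eq _) (h8_vi_eq _) _
  · decide +kernel

theorem h8_w3_c : ∃ x ∈ Subgroup.closure
    ({h8_u (ZMod 3), h8_v (ZMod 3)} : Set (SpecialLinearGroup (Fin 3) (ZMod 3))),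
    (x : Matrix (Fin 3) (Fin 3) (ZMod 3)) = !![1, 1, 0; 0, 1, 0; 0, 1, 1] := by
  refine ⟨(([0, 1, 2, 1, 0, 1, 0, 3, 2, 3, 0] : List (Fin 4)).map
      ![h8_u _, h8_v _, h8_ui _, h8_vi _]).prod, ?_, ?_⟩
  · exact h8_word_mem _ _ _ _ (h8_ui_eq _) (h8_vi_eq _) _
  · decide +kernel

theorem h8_w3_d : ∃ x ∈ Subgroup.closure
    ({h8_u (ZMod 3), h8_v (ZMod 3)} : Set (SpecialLinearGroup (Fin 3) (ZMod 3))),
    (x : Matrix (Fin 3) (Fin 3) (ZMod 3)) = !![1, 0, 0; 1, 1, 1; 0, 0, 1] := by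
  refine ⟨(([0, 3, 2, 3, 0, 1, 0, 1, 2, 1, 0] : List (Fin 4)).map
      ![h8_u _, h8_v _, h8_ui _, h8_vi _]).prod, ?_, ?_⟩
  · exact h8_word_mem _ _ _ _ (h8_ui_eq _) (h8_vi_eq _) _
  · decide +kernel

/-! ### the two small fields -/

/-- **Q7.** -/
theorem h8_Q7 {F : Type*} [Field F] [Fintype F] (hF : Fintype.card F = 7) :
    ∃ u g : SpecialLinearGroup (Fin 3) F,
      (u : Matrix (Fin 3) (Fin 3) F) = !![1, 1, 0; 0, 1, 1; 0, 0, 1] ∧
      ((g * u * g⁻¹ : SpecialLinearGroup (Fin 3) F) : Matrix (Fin 3) (Fin 3) F) =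
        !![1, 0, 0; 1, 1, 0; 0, 1, 1] ∧
      (∃ h ∈ Subgroup.closure ({u, g * u * g⁻¹} : Set (SpecialLinearGroup (Fin 3) F)),
        (h : Matrix (Fin 3) (Fin 3) F) = !![1, 0, 3; 0, 1, 0; 0, 0, 1]) ∧
      (∃ h ∈ Subgroup.closure ({u, g * u * g⁻¹} : Set (SpecialLinearGroup (Fin 3) F)),
        (h : Matrix (Fin 3) (Fin 3) F) = !![1, 0, 0; 0, 1, 0; 3, 0, 1]) ∧
      (∃ h ∈ Subgroup.closure ({u, g * u * g⁻¹} : Set (SpecialLinearGroup (Fin 3) F)),
        (h : Matrix (Fin 3) (Fin 3) F) = !![1, 2, 0; 0, 1, 0; 0, 6, 1]) ∧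
      (∃ h ∈ Subgroup.closure ({u, g * u * g⁻¹} : Set (SpecialLinearGroup (Fin 3) F)),
        (h : Matrix (Fin 3) (Fin 3) F) = !![1, 0, 0; 3, 1, 2; 0, 0, 1]) := by
  have : CharP F 7 := h8_charP_of_card_prime (by norm_num) hF
  let f : ZMod 7 →+* F := ZMod.castHom (dvd_refl 7) F
  refine ⟨h8_u F, h8_g F, rfl, ?_, ?_, ?_, ?_, ?_⟩
  · rw [h8_conj]; rfl
  · rw [h8_conj]
    obtain ⟨y, hy, hyM⟩ := h8_transport f h8_w7_a
    refine ⟨y, hy, ?_⟩
    rw [hyM]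
    ext i j
    fin_cases i <;> fin_cases j <;> simp <;> exact map_ofNat f _
  · rw [h8_conj]
    obtain ⟨y, hy, hyM⟩ := h8_transport f h8_w7_b
    refine ⟨y, hy, ?_⟩
    rw [hyM]
    ext i j
    fin_cases i <;> fin_cases j <;> simp <;> exact map_ofNat f _
  · rw [h8_conj]
    obtain ⟨y, hy, hyM⟩ := h8_transport f h8_w7_c
    refine ⟨y, hy, ?_⟩
    rw [hyM]
    ext i j
    fin_cases i <;> fin_cases j <;> simp <;> exact map_ofNat f _
  · rw [h8_conj]
    obtain ⟨y, hy, hyM⟩ := h8_transport f h8_w7_d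
    refine ⟨y, hy, ?_⟩
    rw [hyM]
    ext i j
    fin_cases i <;> fin_cases j <;> simp <;> exact map_ofNat f _

/-- **Q3.** -/
theorem h8_Q3 {F : Type*} [Field F] [Fintype F] (hF : Fintype.card F = 3) :
    ∃ u g : SpecialLinearGroup (Fin 3) F,
      (u : Matrix (Fin 3) (Fin 3) F) = !![1, 1, 0; 0, 1, 1; 0, 0, 1] ∧
      ((g * u * g⁻¹ : SpecialLinearGroup (Fin 3) F) : Matrix (Fin 3) (Fin 3) F) =
        !![1, 0, 0; 1, 1, 0; 0, 1, 1] ∧
      (∃ h ∈ Subgroup.closure ({u, g * u * g⁻¹} : Set (SpecialLinearGroup (Fin 3) F)),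
        (h : Matrix (Fin 3) (Fin 3) F) = !![1, 0, 1; 0, 1, 0; 0, 0, 1]) ∧
      (∃ h ∈ Subgroup.closure ({u, g * u * g⁻¹} : Set (SpecialLinearGroup (Fin 3) F)),
        (h : Matrix (Fin 3) (Fin 3) F) = !![1, 0, 0; 0, 1, 0; 1, 0, 1]) ∧
      (∃ h ∈ Subgroup.closure ({u, g * u * g⁻¹} : Set (SpecialLinearGroup (Fin 3) F)),
        (h : Matrix (Fin 3) (Fin 3) F) = !![1, 1, 0; 0, 1, 0; 0, 1, 1]) ∧
      (∃ h ∈ Subgroup.closure ({u, g * u * g⁻¹} : Set (SpecialLinearGroup (Fin 3) F)),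
        (h : Matrix (Fin 3) (Fin 3) F) = !![1, 0, 0; 1, 1, 1; 0, 0, 1]) := by
  have : CharP F 3 := h8_charP_of_card_prime (by norm_num) hF
  let f : ZMod 3 →+* F := ZMod.castHom (dvd_refl 3) F
  refine ⟨h8_u F, h8_g F, rfl, ?_, ?_, ?_, ?_, ?_⟩
  · rw [h8_conj]; rfl
  · rw [h8_conj]
    obtain ⟨y, hy, hyM⟩ := h8_transport f h8_w3_a
    refine ⟨y, hy, ?_⟩
    rw [hyM]
    ext i j
    fin_cases i <;> fin_cases j <;> simp
  · rw [h8_conj]
    obtain ⟨y, hy, hyM⟩ := h8_transport f h8_w3_b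
    refine ⟨y, hy, ?_⟩
    rw [hyM]
    ext i j
    fin_cases i <;> fin_cases j <;> simp
  · rw [h8_conj]
    obtain ⟨y, hy, hyM⟩ := h8_transport f h8_w3_c
    refine ⟨y, hy, ?_⟩
    rw [hyM]
    ext i j
    fin_cases i <;> fin_cases j <;> simp
  · rw [h8_conj]
    obtain ⟨y, hy, hyM⟩ := h8_transport f h8_w3_d
    refine ⟨y, hy, ?_⟩
    rw [hyM]
    ext i j
    fin_cases i <;> fin_cases j <;> simp

end Cfsg.Agent.SL3G
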