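import Cfsg.Agent.SL3G.GP
import Cfsg.Agent.SL3G.Goal
import Cfsg.Agent.SL3G.H8_Q37
import Cfsg.Agent.SL3G.H8_Reg

/-!
# S2278 swarm (helper8): the fields with 3 and 7 elements, assembled with the general-position lemma
-/

set_option autoImplicit false

namespace Cfsg.Agent.SL3G

open Matrix

/-- in a field of prime cardinality `p`, a natural number `k` not divisible by `p` is nonzero. -/
theorem h8_natCast_ne_zero {F : Type*} [Field F] [Fintype F] {p : ℕ} (hp : p.Prime)
    (hF : Fintype.card F = p) (k : ℕ) (hk : ¬ p ∣ k) : (k : F) ≠ 0 := by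
  have : CharP F p := h8_charP_of_card_prime hp hF
  intro h
  exact hk ((CharP.cast_eq_zero_iff F p k).mp h)

/-- **S2278 for the field with 7 elements.** -/
theorem h8_goal7 {F : Type*} [Field F] [Fintype F] (hF : Fintype.card F = 7) : Goal F := by
  obtain ⟨u, g, hu, -, ha, hb, hc, hd⟩ := h8_Q7 hF
  have hreg := h8_regular_of_upper (1 : F) 1 0 (by simp) _ hu
  have hp : (Fintype.card F).Prime := by rw [hF]; norm_num
  have h3 : (3 : F) ≠ 0 := by
    have := h8_natCast_ne_zero (F := F) (p := 7) (by norm_num) hF 3 (by norm_num)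
    exact_mod_cast this
  have h2 : (2 : F) ≠ 0 := by
    have := h8_natCast_ne_zero (F := F) (p := 7) (by norm_num) hF 2 (by norm_num)
    exact_mod_cast this
  refine ⟨u, g, hreg.1, hreg.2, ?_⟩
  exact gp_top (H := Subgroup.closure ({u, g * u * g⁻¹} : Set (SpecialLinearGroup (Fin 3) F)))
    3 3 h3 h3 (h8_subfield_eq_top_of_card_prime hp _) ha hb 2 6 (Or.inl h2) hc 3 2 (Or.inl h3) hd

/-- **S2278 for the field with 3 elements.** -/
theorem h8_goal3 {F : Type*} [Field F] [Fintype F] (hF : Fintype.card F = 3) : Goal F := by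
  obtain ⟨u, g, hu, -, ha, hb, hc, hd⟩ := h8_Q3 hF
  have hreg := h8_regular_of_upper (1 : F) 1 0 (by simp) _ hu
  have hp : (Fintype.card F).Prime := by rw [hF]; norm_num
  refine ⟨u, g, hreg.1, hreg.2, ?_⟩
  exact gp_top (H := Subgroup.closure ({u, g * u * g⁻¹} : Set (SpecialLinearGroup (Fin 3) F)))
    1 1 one_ne_zero one_ne_zero (h8_subfield_eq_top_of_card_prime hp _) ha hb 1 1
    (Or.inl one_ne_zero) hc 1 1 (Or.inl one_ne_zero) hd

end Cfsg.Agent.SL3G
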