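import Cfsg.Agent.SL3G.GP
import Cfsg.Agent.SL3G.Goal
import Cfsg.Agent.SL3G.H3_Q4
import Cfsg.Agent.SL3G.H8_Reg

/-!
# S2278 swarm (helper8): the field with 4 elements, assembled from helper3's `h3_Q4` and `gp_top`
-/

set_option autoImplicit false

namespace Cfsg.Agent.SL3G

open Matrix

/-- **S2278 for the field with 4 elements.** -/
theorem h8_goal4 {F : Type*} [Field F] [Fintype F] (hF : Fintype.card F = 4) : Goal F := by
  obtain ⟨w, -, hne, hcl, u, g, hu, -, ha, hb, hc, hd⟩ := h3_Q4 hF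
  have hreg := h8_regular_of_upper (1 : F) 1 w (by simp) _ hu
  refine ⟨u, g, hreg.1, hreg.2, ?_⟩
  exact gp_top (H := Subgroup.closure ({u, g * u * g⁻¹} : Set (SpecialLinearGroup (Fin 3) F)))
    1 (w + 1) one_ne_zero hne hcl ha hb (w + 1) 0 (Or.inl hne) hc 0 (w + 1) (Or.inr hne) hd

end Cfsg.Agent.SL3G
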